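import Groth.Prelude.Def_RelSpec2
import Groth.Agent.Lib.RelProj11.Map

/-!
The vertex section and the pointed affine cone.
-/

universe u

open CategoryTheory CategoryTheory.Limits AlgebraicGeometry TopologicalSpace Opposite
open scoped HomogeneousIdeal

namespace Groth.Agent.RelCone11

theorem mem_vertexCompl {R : CommRingCat.{u}} {𝒜 : ℕ → AddSubgroup R} [GradedRing 𝒜] {q : Spec R} :
    q ∈ RelCone.vertexCompl 𝒜 ↔ ¬ ((𝒜₊).toIdeal ≤ q.asIdeal) := Iff.rfl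

theorem ι_injective {S : Scheme.{u}} (A : RelSpec.QCAlg S) (U : S.Opens) (hU : IsAffineOpen U) :
    Function.Injective (A.ι U hU) := (A.ι U hU).isOpenEmbedding.injective

/-- Restriction between charts of a relative spectrum. -/
theorem ι_res_eq {S : Scheme.{u}} (A : RelSpec.QCAlg S) {U D : S.Opens} (hU : IsAffineOpen U) (hD : IsAffineOpen D)
    (r : Γ(S, U)) (e : D = S.basicOpen r) (hle : D ≤ U) :
    Spec.map (A.presheaf.map (homOfLE hle).op) ≫ A.ι U hU = A.ι D hD := by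
  subst e
  exact A.ι_res (homOfLE (Scheme.AffineZariskiSite.basicOpen_le (⟨U, hU⟩ : S.AffineZariskiSite) r))

theorem existsUnique_glue_id {S Z : Scheme.{u}} (g : ∀ (U : S.Opens) (_ : IsAffineOpen U), U.toScheme ⟶ Z)
    (hg : ∀ (U : S.Opens) (hU : IsAffineOpen U) (r : Γ(S, U)),
      S.homOfLE (S.basicOpen_le r) ≫ g U hU = g (S.basicOpen r) (hU.basicOpen r)) :
    ∃! e : S ⟶ Z, ∀ (U : S.Opens) (hU : IsAffineOpen U), U.ι ≫ e = g U hU :=
  RelProj11.existsUnique_glue (𝟙 S) g hg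

theorem hom_ext_id {S Z : Scheme.{u}} (f g : S ⟶ Z)
    (h : ∀ (U : S.Opens), IsAffineOpen U → U.ι ≫ f = U.ι ≫ g) : f = g :=
  RelProj11.hom_ext_preimage (𝟙 S) f g h

theorem mem_range_ι {S : Scheme.{u}} (A : RelSpec.QCAlg S) {U : S.Opens} (hU : IsAffineOpen U) (c : A.spec)
    (hc : A.π c ∈ U) : ∃ q, A.ι U hU q = c := by
  have : c ∈ A.π ⁻¹ᵁ U := hc
  rw [A.π_preimage U hU] at this
  exact this

theorem π_ι_mem {S : Scheme.{u}} (A : RelSpec.QCAlg S) {U : S.Opens} (hU : IsAffineOpen U)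
    (q : Spec (A.presheaf.obj (op U))) : A.π (A.ι U hU q) ∈ U := by
  have : A.ι U hU q ∈ A.π ⁻¹ᵁ U := by rw [A.π_preimage U hU]; exact ⟨q, rfl⟩
  exact this

variable {S : Scheme.{u}} (𝒮 : RelProj.QCGrAlg S)

theorem vertexCompl_res {U D : S.Opens} (hU : IsAffineOpen U) (hD : IsAffineOpen D)
    (r : Γ(S, U)) (e : D = S.basicOpen r) (hle : D ≤ U) (w : Spec (𝒮.presheaf.obj (op D))) :
    Spec.map (𝒮.presheaf.map (homOfLE hle).op) w ∈ RelCone.vertexCompl (𝒮.deg U hU) ↔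
      w ∈ RelCone.vertexCompl (𝒮.deg D hD) := by
  subst e
  rw [mem_vertexCompl, mem_vertexCompl, not_iff_not]
  constructor
  · intro h
    refine le_trans (fun x hx => 𝒮.irrelevant_le_map U hU r hx) ?_
    exact Ideal.map_le_iff_le_comap.2 h
  · intro h x hx
    refine h ?_
    have h' : ((𝒮.deg U hU)₊).toIdeal ≤
        Ideal.comap (𝒮.presheaf.map (homOfLE hle).op).hom ((𝒮.deg (S.basicOpen r) hD)₊).toIdeal :=
      (HomogeneousIdeal.toIdeal_irrelevant_le _).2 fun i hi x hx =>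
        HomogeneousIdeal.mem_irrelevant_of_mem _ hi (𝒮.map_mem hU hD hle hx)
    exact h' hx

/-- The pointed cone is the complement of the vertex locus in every chart. -/
theorem mem_pointedCone_iff {U : S.Opens} (hU : IsAffineOpen U) (q : Spec (𝒮.presheaf.obj (op U))) :
    𝒮.toQCAlg.ι U hU q ∈ RelCone.pointedCone 𝒮 ↔ q ∈ RelCone.vertexCompl (𝒮.deg U hU) := by
  refine ⟨fun h => ?_, fun h => Opens.mem_iSup.2 ⟨⟨U, hU⟩, q, h, rfl⟩⟩
  obtain ⟨⟨V, hV⟩, q', hq', he⟩ := Opens.mem_iSup.1 h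
  have h1 := π_ι_mem 𝒮.toQCAlg hU q
  have h2 : 𝒮.toQCAlg.π (𝒮.toQCAlg.ι U hU q) ∈ V := by rw [← he]; exact π_ι_mem 𝒮.toQCAlg hV q'
  obtain ⟨r, t, e, hx⟩ := exists_basicOpen_le_affine_inter hU hV _ ⟨h1, h2⟩
  obtain ⟨w, hw⟩ := mem_range_ι 𝒮.toQCAlg (hU.basicOpen r) _ hx
  have hle : S.basicOpen r ≤ V := e ▸ S.basicOpen_le t
  have eU := ι_res_eq 𝒮.toQCAlg hU (hU.basicOpen r) r rfl (S.basicOpen_le r)
  have eV := ι_res_eq 𝒮.toQCAlg hV (hU.basicOpen r) t e hle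
  have hqU : Spec.map (𝒮.presheaf.map (homOfLE (S.basicOpen_le r)).op) w = q := by
    apply ι_injective 𝒮.toQCAlg U hU
    rw [← Scheme.Hom.comp_apply, eU, hw]
  have hqV : Spec.map (𝒮.presheaf.map (homOfLE hle).op) w = q' := by
    apply ι_injective 𝒮.toQCAlg V hV
    rw [← Scheme.Hom.comp_apply, eV, hw]
    exact he.symm
  rw [← hqU, vertexCompl_res 𝒮 hU (hU.basicOpen r) r rfl]
  exact (vertexCompl_res 𝒮 hV (hU.basicOpen r) t e hle w).1 (hqV ▸ hq')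

section Vertex

variable (aug : 𝒮.toQCAlg ⟶ RelSpec.QCAlg.unit S)

theorem str_aug (U : S.Opens) (x : Γ(S, U)) :
    (aug.hom.app (op U)).hom ((𝒮.str.app (op U)).hom x) = x :=
  ConcreteCategory.congr_hom (NatTrans.congr_app aug.comm (op U)) x

/-- The augmentation over an open, valued in the sections of the structure sheaf. -/
def augAt (U : S.Opens) : 𝒮.presheaf.obj (op U) ⟶ Γ(S, U) := aug.hom.app (op U)

theorem str_augAt (U : S.Opens) : 𝒮.str.app (op U) ≫ augAt 𝒮 aug U = 𝟙 _ :=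
  NatTrans.congr_app aug.comm (op U)

theorem augAt_res {U D : S.Opens} (i : D ≤ U) :
    𝒮.presheaf.map (homOfLE i).op ≫ augAt 𝒮 aug D = augAt 𝒮 aug U ≫ S.presheaf.map (homOfLE i).op :=
  aug.hom.naturality _

theorem vertex_fromSpec {ε : S ⟶ 𝒮.toQCAlg.spec} (hε : RelCone.IsVertex 𝒮 aug ε) (U : S.Opens) (hU : IsAffineOpen U) :
    hU.fromSpec ≫ ε = Spec.map (augAt 𝒮 aug U) ≫ 𝒮.toQCAlg.ι U hU :=
  hε.chart U hU

theorem existsUnique_vertex :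
    ∃! ε : S ⟶ 𝒮.toQCAlg.spec, RelCone.IsVertex 𝒮 aug ε := by
  obtain ⟨ε, hε, huniq⟩ := existsUnique_glue_id
    (fun U hU => hU.isoSpec.hom ≫ Spec.map (augAt 𝒮 aug U) ≫ 𝒮.toQCAlg.ι U hU) fun U hU r => by
      rw [← ι_res_eq 𝒮.toQCAlg hU (hU.basicOpen r) r rfl (S.basicOpen_le r)]
      have e1 : (hU.basicOpen r).isoSpec.hom ≫ Spec.map (S.presheaf.map (homOfLE (S.basicOpen_le r)).op) =
          S.homOfLE (S.basicOpen_le r) ≫ hU.isoSpec.hom := by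
        rw [← cancel_mono hU.fromSpec]
        simp only [Category.assoc, IsAffineOpen.isoSpec_hom_fromSpec]
        rw [hU.map_fromSpec (hU.basicOpen r), IsAffineOpen.isoSpec_hom_fromSpec]
        exact (Scheme.homOfLE_ι _ (S.basicOpen_le r)).symm
      rw [← Category.assoc (S.homOfLE _), ← e1, Category.assoc, ← Spec.map_comp_assoc, ← Spec.map_comp_assoc]
      congr 3
      exact (augAt_res 𝒮 aug _).symm
  refine ⟨ε, ⟨?_, fun U hU => ?_⟩, fun ε' hε' => huniq ε' fun U hU => ?_⟩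
  · refine hom_ext_id _ _ fun U hU => ?_
    rw [← Category.assoc, hε U hU]
    simp only [Category.assoc, RelSpec.QCAlg.ι_π]
    rw [← Spec.map_comp_assoc, str_augAt]
    simp
  · show hU.fromSpec ≫ ε = Spec.map (augAt 𝒮 aug U) ≫ 𝒮.toQCAlg.ι U hU
    have h := hε U hU
    rw [← cancel_epi hU.isoSpec.hom, ← Category.assoc, IsAffineOpen.isoSpec_hom_fromSpec]
    exact h
  · rw [← vertex_fromSpec 𝒮 aug hε' U hU, ← Category.assoc, IsAffineOpen.isoSpec_hom_fromSpec]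

theorem isClosedImmersion_vertex {ε : S ⟶ 𝒮.toQCAlg.spec} (hε : RelCone.IsVertex 𝒮 aug ε) :
    IsClosedImmersion ε := by
  haveI : IsClosedImmersion (ε ≫ 𝒮.toQCAlg.π) := by rw [hε.comp_π]; infer_instance
  exact IsClosedImmersion.of_comp ε 𝒮.toQCAlg.π

theorem pointedCone_eq_compl {ε : S ⟶ 𝒮.toQCAlg.spec} (h0 : RelCone.StrZeroBij 𝒮)
    (haug : RelCone.IsAugmentation 𝒮 aug) (hε : RelCone.IsVertex 𝒮 aug ε) :
    ((RelCone.pointedCone 𝒮 : 𝒮.toQCAlg.spec.Opens) : Set 𝒮.toQCAlg.spec) = (Set.range ε.base)ᶜ := by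
  classical
  ext c
  obtain ⟨U, hU, hc⟩ : ∃ U : S.Opens, IsAffineOpen U ∧ 𝒮.toQCAlg.π c ∈ U := by
    obtain ⟨U, hU, hx, -⟩ := exists_isAffineOpen_mem_and_subset (U := (⊤ : S.Opens)) (x := 𝒮.toQCAlg.π c) trivial
    exact ⟨U, hU, hx⟩
  obtain ⟨q, rfl⟩ := mem_range_ι 𝒮.toQCAlg hU c hc
  rw [SetLike.mem_coe, mem_pointedCone_iff 𝒮 hU, mem_vertexCompl, Set.mem_compl_iff, not_iff_not]
  let a : 𝒮.presheaf.obj (op U) ⟶ Γ(S, U) := augAt 𝒮 aug U
  have hker : RingHom.ker a.hom = ((𝒮.deg U hU)₊).toIdeal := by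
    have hle : ((𝒮.deg U hU)₊).toIdeal ≤ RingHom.ker a.hom :=
      (HomogeneousIdeal.toIdeal_irrelevant_le _).2 fun i hi x hx => by
        obtain ⟨d, rfl⟩ := Nat.exists_eq_succ_of_ne_zero hi.ne'
        exact haug U hU d x hx
    refine le_antisymm (fun x hx => ?_) hle
    let x0 : 𝒮.presheaf.obj (op U) := DirectSum.decompose (𝒮.deg U hU) x 0
    have h1 : x - x0 ∈ ((𝒮.deg U hU)₊).toIdeal := by
      rw [HomogeneousIdeal.mem_iff, HomogeneousIdeal.mem_irrelevant_iff, GradedRing.proj_apply, DirectSum.decompose_sub]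
      show (DirectSum.decompose (𝒮.deg U hU) x 0 : 𝒮.presheaf.obj (op U)) -
        (DirectSum.decompose (𝒮.deg U hU) x0 0 : 𝒮.presheaf.obj (op U)) = 0
      rw [DirectSum.decompose_of_mem_same _ (SetLike.coe_mem _)]
      exact sub_self _
    obtain ⟨s, hs⟩ := (h0 U hU).2 (DirectSum.decompose (𝒮.deg U hU) x 0)
    have hs' : (𝒮.str.app (op U)).hom s = x0 := congrArg Subtype.val hs
    have h2 : a.hom x0 = 0 := by
      have := RingHom.mem_ker.1 (hle h1)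
      rwa [map_sub, RingHom.mem_ker.1 hx, zero_sub, neg_eq_zero] at this
    have h3 : s = 0 := by rw [← hs'] at h2; exact (str_aug 𝒮 aug U s).symm.trans h2
    rw [h3, map_zero] at hs'
    rw [← hs', sub_zero] at h1
    exact h1
  have hrange : Set.range (Spec.map a) = PrimeSpectrum.zeroLocus (RingHom.ker a.hom : Set (𝒮.presheaf.obj (op U))) :=
    range_comap_of_surjective _ _ fun s => ⟨_, str_aug 𝒮 aug U s⟩
  rw [← hker]
  constructor
  · intro h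
    obtain ⟨z, hz⟩ : q ∈ Set.range (Spec.map a) := by rw [hrange]; exact h
    exact ⟨hU.fromSpec z, (congr($(vertex_fromSpec 𝒮 aug hε U hU) z)).trans (congrArg (𝒮.toQCAlg.ι U hU) hz)⟩
  · rintro ⟨y, hy⟩
    have hy' : y ∈ U := by
      have h1 := congrArg 𝒮.toQCAlg.π hy
      rw [← Scheme.Hom.comp_apply, hε.comp_π] at h1
      have h2 := π_ι_mem 𝒮.toQCAlg hU q
      rw [← h1] at h2
      exact h2
    obtain ⟨z, rfl⟩ : y ∈ Set.range hU.fromSpec := by rw [hU.range_fromSpec]; exact hy'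
    have h3 : q ∈ Set.range (Spec.map a) := ⟨z, by
      apply ι_injective 𝒮.toQCAlg U hU
      exact (congr($(vertex_fromSpec 𝒮 aug hε U hU) z)).symm.trans hy⟩
    rw [hrange] at h3
    exact h3

end Vertex

section Functorial

variable {S' : Scheme.{u}} (g : S' ⟶ S) (𝒮' : RelProj.QCGrAlg S')
  (v : 𝒮.presheaf ⟶ g.base _* 𝒮'.presheaf)
  (hv : 𝒮.str ≫ v = g.c ≫ (TopCat.Presheaf.pushforward CommRingCat.{u} g.base).map 𝒮'.str)
  (φ : ∀ (U : S.Opens) (hU : IsAffineOpen U) (U' : S'.Opens) (hU' : IsAffineOpen U') (_ : U' ≤ g ⁻¹ᵁ U),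
    𝒮.deg U hU →+*ᵍ 𝒮'.deg U' hU')
  (hφ : ∀ (U : S.Opens) (hU : IsAffineOpen U) (U' : S'.Opens) (hU' : IsAffineOpen U') (hle : U' ≤ g ⁻¹ᵁ U),
    (φ U hU U' hU' hle).toRingHom =
      ((v.app (op U) : 𝒮.presheaf.obj (op U) ⟶ 𝒮'.presheaf.obj (op (g ⁻¹ᵁ U))) ≫
        𝒮'.presheaf.map (homOfLE hle).op).hom)
  (Φ : 𝒮'.toQCAlg.spec ⟶ 𝒮.toQCAlg.spec)
  (hΦ : ∀ (U : S.Opens) (hU : IsAffineOpen U) (U' : S'.Opens) (hU' : IsAffineOpen U') (hle : U' ≤ g ⁻¹ᵁ U),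
    𝒮'.toQCAlg.ι U' hU' ≫ Φ =
      Spec.map ((v.app (op U) : 𝒮.presheaf.obj (op U) ⟶ 𝒮'.presheaf.obj (op (g ⁻¹ᵁ U))) ≫
        𝒮'.presheaf.map (homOfLE hle).op) ≫ 𝒮.toQCAlg.ι U hU)

include hv hΦ in
theorem Φ_π : Φ ≫ 𝒮.toQCAlg.π = 𝒮'.toQCAlg.π ≫ g := by
  have cov : ∀ y : S', ∃ (U : S.Opens) (hU : IsAffineOpen U) (U' : S'.Opens) (hU' : IsAffineOpen U'),
      U' ≤ g ⁻¹ᵁ U ∧ y ∈ U' := by
    intro y
    obtain ⟨U, hU, hy, -⟩ := exists_isAffineOpen_mem_and_subset (U := (⊤ : S.Opens)) (x := g y) trivial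
    obtain ⟨U', hU', hy', hle⟩ := exists_isAffineOpen_mem_and_subset (U := g ⁻¹ᵁ U) (x := y) hy
    exact ⟨U, hU, U', hU', hle, hy'⟩
  let O : S' → 𝒮'.toQCAlg.spec.Opens := fun y => 𝒮'.toQCAlg.π ⁻¹ᵁ (cov y).choose_spec.choose_spec.choose
  have hO : iSup O = ⊤ := top_le_iff.1 fun c _ =>
    Opens.mem_iSup.2 ⟨𝒮'.toQCAlg.π c, (cov (𝒮'.toQCAlg.π c)).choose_spec.choose_spec.choose_spec.choose_spec.2⟩
  refine Scheme.Cover.hom_ext (𝒮'.toQCAlg.spec.openCoverOfIsOpenCover O hO) _ _ fun (y : S') => ?_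
  obtain ⟨hU', hle, -⟩ := (cov y).choose_spec.choose_spec.choose_spec
  set U := (cov y).choose
  set U' := (cov y).choose_spec.choose_spec.choose
  have hU : IsAffineOpen U := (cov y).choose_spec.choose
  show (𝒮'.toQCAlg.π ⁻¹ᵁ U').ι ≫ _ = (𝒮'.toQCAlg.π ⁻¹ᵁ U').ι ≫ _
  have key : 𝒮'.toQCAlg.ι U' hU' ≫ Φ ≫ 𝒮.toQCAlg.π = 𝒮'.toQCAlg.ι U' hU' ≫ 𝒮'.toQCAlg.π ≫ g := by
    rw [reassoc_of% hΦ U hU U' hU' hle, RelSpec.QCAlg.ι_π, reassoc_of% 𝒮'.toQCAlg.ι_π, ← Spec.map_comp_assoc]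
    have e : 𝒮.str.app (op U) ≫ (v.app (op U) : 𝒮.presheaf.obj (op U) ⟶ 𝒮'.presheaf.obj (op (g ⁻¹ᵁ U))) ≫
        𝒮'.presheaf.map (homOfLE hle).op = g.appLE U U' hle ≫ 𝒮'.str.app (op U') := by
      rw [Scheme.Hom.appLE, Category.assoc]; erw [𝒮'.str.naturality]
      exact congrArg (· ≫ 𝒮'.presheaf.map (homOfLE hle).op) (NatTrans.congr_app hv (op U)) |>.trans (Category.assoc _ _ _)
    rw [e, Spec.map_comp, Category.assoc]
    exact congrArg (Spec.map (𝒮'.str.app (op U')) ≫ ·) (IsAffineOpen.SpecMap_appLE_fromSpec g hU hU' hle)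
  have hr : Set.range (𝒮'.toQCAlg.π ⁻¹ᵁ U').ι ⊆ Set.range (𝒮'.toQCAlg.ι U' hU') := by
    rw [Scheme.Opens.range_ι, 𝒮'.toQCAlg.π_preimage U' hU']; rfl
  rw [← IsOpenImmersion.lift_fac (𝒮'.toQCAlg.ι U' hU') _ hr, Category.assoc, Category.assoc, key]

include hv hφ hΦ in
theorem mem_preimage_pointedCone_iff {U : S.Opens} (hU : IsAffineOpen U) {U' : S'.Opens} (hU' : IsAffineOpen U')
    (hle : U' ≤ g ⁻¹ᵁ U) (q' : Spec (𝒮'.presheaf.obj (op U'))) :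
    𝒮'.toQCAlg.ι U' hU' q' ∈ Φ ⁻¹ᵁ RelCone.pointedCone 𝒮 ↔
      ¬ (((𝒮.deg U hU)₊).toIdeal ≤ Ideal.comap (φ U hU U' hU' hle) q'.asIdeal) := by
  rw [Scheme.Hom.mem_preimage, ← Scheme.Hom.comp_apply, hΦ U hU U' hU' hle, Scheme.Hom.comp_apply,
    mem_pointedCone_iff 𝒮 hU, mem_vertexCompl]
  refine not_congr ⟨fun h x hx => ?_, fun h x hx => ?_⟩
  · have := h hx
    show (φ U hU U' hU' hle).toRingHom x ∈ q'.asIdeal
    rw [hφ]; exact this
  · have h1 : (φ U hU U' hU' hle).toRingHom x ∈ q'.asIdeal := h hx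
    rw [hφ] at h1
    exact h1

include hv hφ hΦ in
theorem preimage_pointedCone_le : Φ ⁻¹ᵁ RelCone.pointedCone 𝒮 ≤ RelCone.pointedCone 𝒮' := by
  intro c hc
  obtain ⟨U, hU, hy, -⟩ := exists_isAffineOpen_mem_and_subset (U := (⊤ : S.Opens)) (x := g (𝒮'.toQCAlg.π c)) trivial
  obtain ⟨U', hU', hy', hle⟩ := exists_isAffineOpen_mem_and_subset (U := g ⁻¹ᵁ U) (x := 𝒮'.toQCAlg.π c) hy
  obtain ⟨q', rfl⟩ := mem_range_ι 𝒮'.toQCAlg hU' c hy'
  rw [mem_preimage_pointedCone_iff 𝒮 g 𝒮' v hv φ hφ Φ hΦ hU hU' hle] at hc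
  rw [mem_pointedCone_iff 𝒮' hU', mem_vertexCompl]
  refine fun h => hc ((HomogeneousIdeal.toIdeal_irrelevant_le _).2 fun i hi x hx => ?_)
  exact h (HomogeneousIdeal.mem_irrelevant_of_mem _ hi ((φ U hU U' hU' hle).map_mem hx))

include hv hφ hΦ in
theorem preimage_pointedCone_eq_iff :
    (∀ (U : S.Opens) (hU : IsAffineOpen U) (U' : S'.Opens) (hU' : IsAffineOpen U') (hle : U' ≤ g ⁻¹ᵁ U),
        RelCone.domOpen (φ U hU U' hU' hle) = ⊤) ↔
      Φ ⁻¹ᵁ RelCone.pointedCone 𝒮 = RelCone.pointedCone 𝒮' := by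
  classical
  constructor
  · intro hdom
    refine le_antisymm (preimage_pointedCone_le 𝒮 g 𝒮' v hv φ hφ Φ hΦ) fun c hc => ?_
    obtain ⟨U, hU, hy, -⟩ := exists_isAffineOpen_mem_and_subset (U := (⊤ : S.Opens)) (x := g (𝒮'.toQCAlg.π c)) trivial
    obtain ⟨U', hU', hy', hle⟩ := exists_isAffineOpen_mem_and_subset (U := g ⁻¹ᵁ U) (x := 𝒮'.toQCAlg.π c) hy
    obtain ⟨q', rfl⟩ := mem_range_ι 𝒮'.toQCAlg hU' c hy'
    rw [mem_preimage_pointedCone_iff 𝒮 g 𝒮' v hv φ hφ Φ hΦ hU hU' hle]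
    rw [mem_pointedCone_iff 𝒮' hU', mem_vertexCompl] at hc
    intro h
    let J : HomogeneousIdeal (𝒮'.deg U' hU') := q'.asIdeal.homogeneousCore (𝒮'.deg U' hU')
    have hJ : J.toIdeal.IsPrime := q'.isPrime.homogeneousCore
    have hnot : ¬ (𝒮'.deg U' hU')₊ ≤ J := fun h1 => hc (le_trans (fun x hx => h1 hx)
      (Ideal.toIdeal_homogeneousCore_le _ _))
    let x : Proj (𝒮'.deg U' hU') := ⟨J, hJ, hnot⟩
    have hx : x ∈ RelCone.domOpen (φ U hU U' hU' hle) := by rw [hdom U hU U' hU' hle]; trivial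
    obtain ⟨f, hf, hfx⟩ := (RelCone.mem_domOpen _ x).1 hx
    refine hfx ?_
    revert f
    intro f hf _
    have hle' : ((𝒮.deg U hU)₊).toIdeal ≤ Ideal.comap (φ U hU U' hU' hle) J.toIdeal :=
      (HomogeneousIdeal.toIdeal_irrelevant_le _).2 fun i hi y hy =>
        Ideal.mem_homogeneousCore_of_homogeneous_of_mem ⟨i, (φ U hU U' hU' hle).map_mem hy⟩
          (h (HomogeneousIdeal.mem_irrelevant_of_mem _ hi hy))
    exact hle' hf
  · intro heq U hU U' hU' hle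
    refine top_le_iff.1 fun x _ => ?_
    let q' : Spec (𝒮'.presheaf.obj (op U')) := ⟨x.asHomogeneousIdeal.toIdeal, x.isPrime⟩
    have h1 : 𝒮'.toQCAlg.ι U' hU' q' ∈ RelCone.pointedCone 𝒮' :=
      (mem_pointedCone_iff 𝒮' hU' q').2 (mem_vertexCompl.2 fun h => x.not_irrelevant_le fun y hy => h hy)
    rw [← heq, mem_preimage_pointedCone_iff 𝒮 g 𝒮' v hv φ hφ Φ hΦ hU hU' hle] at h1
    obtain ⟨f, hf, hfx⟩ := SetLike.not_le_iff_exists.1 h1
    exact (RelCone.mem_domOpen _ x).2 ⟨f, hf, hfx⟩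

end Functorial

end Groth.Agent.RelCone11
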