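import Groth.Agent.Lib.RelCone11.ProjCone
import Groth.Agent.Lib.RelProj11.Dense
import Mathlib.AlgebraicGeometry.Morphisms.SchemeTheoreticallyDominant

/-!
The canonical morphism from the affine cone to the projective cone.
-/

universe u

open CategoryTheory CategoryTheory.Limits AlgebraicGeometry TopologicalSpace Opposite HomogeneousLocalization
open scoped HomogeneousIdeal

namespace Groth.Agent.RelCone11

variable {S : Scheme.{u}} {𝒮 𝒮h : RelProj.QCGrAlg S} {ι : 𝒮.toQCAlg ⟶ 𝒮h.toQCAlg}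
  {z : 𝒮h.presheaf.obj (op ⊤)} (hz : RelCone.IsPolyOver 𝒮 𝒮h ι z)

theorem restrictTop_res (z : 𝒮h.presheaf.obj (op ⊤)) {U D : S.Opens} (i : D ≤ U) :
    (𝒮h.presheaf.map (homOfLE i).op).hom (RelCone.restrictTop 𝒮h z U) = RelCone.restrictTop 𝒮h z D := by
  rw [RelCone.restrictTop, ← CommRingCat.comp_apply, ← Functor.map_comp]
  rfl

theorem evalOne_res {U D : S.Opens} (hU : IsAffineOpen U) (hD : IsAffineOpen D) (i : D ≤ U)
    (x : 𝒮h.presheaf.obj (op U)) :
    hz.evalOne D hD ((𝒮h.presheaf.map (homOfLE i).op).hom x) =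
      (𝒮.presheaf.map (homOfLE i).op).hom (hz.evalOne U hU x) := by
  obtain ⟨P, rfl⟩ := (hz.bij U hU).2 x
  refine RingHom.congr_fun (f := (hz.evalOne D hD).comp ((𝒮h.presheaf.map (homOfLE i).op).hom.comp
    (Polynomial.eval₂RingHom (ι.hom.app (op U)).hom (RelCone.restrictTop 𝒮h z U))))
    (g := (𝒮.presheaf.map (homOfLE i).op).hom.comp ((hz.evalOne U hU).comp
    (Polynomial.eval₂RingHom (ι.hom.app (op U)).hom (RelCone.restrictTop 𝒮h z U)))) (Polynomial.ringHom_ext (fun a => ?_) ?_) P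
  · simp only [RingHom.comp_apply, Polynomial.coe_eval₂RingHom, Polynomial.eval₂_C, hz.evalOne_ι]
    have h1 := ConcreteCategory.congr_hom (ι.hom.naturality (homOfLE i).op) a
    simp only [CommRingCat.comp_apply] at h1
    rw [← h1, hz.evalOne_ι]
  · simp only [RingHom.comp_apply, Polynomial.coe_eval₂RingHom, Polynomial.eval₂_X, hz.evalOne_z, map_one,
      restrictTop_res]

include hz in
theorem nonZeroDivisor_z {U : S.Opens} (hU : IsAffineOpen U) :
    RelCone.restrictTop 𝒮h z U ∈ nonZeroDivisors (𝒮h.presheaf.obj (op U)) := by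
  have e : hz.polyEquiv U hU Polynomial.X = RelCone.restrictTop 𝒮h z U := by
    rw [RelCone.IsPolyOver.polyEquiv_apply, Polynomial.eval₂_X]
  rw [mem_nonZeroDivisors_iff_right]
  intro x hx
  obtain ⟨P, rfl⟩ := (hz.polyEquiv U hU).surjective x
  rw [← e, ← map_mul, map_eq_zero_iff _ (hz.polyEquiv U hU).injective] at hx
  rw [mem_nonZeroDivisors_iff_right.1 Polynomial.monic_X.mem_nonZeroDivisors P hx, map_zero]

/-- A map out of the localization with the computation rule of `awayZToBase` is `awayZToBase`. -/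
theorem eq_awayZToBase {U : S.Opens} (hU : IsAffineOpen U)
    (τ : Away (𝒮h.deg U hU) (RelCone.restrictTop 𝒮h z U) →+* 𝒮.presheaf.obj (op U))
    (hτ : ∀ (q : Away (𝒮h.deg U hU) (RelCone.restrictTop 𝒮h z U)) (k : ℕ) (x : 𝒮.presheaf.obj (op U)),
      x ∈ 𝒮.deg U hU k →
      q.val = Localization.mk ((ι.hom.app (op U)).hom x)
        ⟨RelCone.restrictTop 𝒮h z U ^ k, pow_mem (Submonoid.mem_powers _) k⟩ → τ q = x) :
    τ = hz.awayZToBase U hU := by
  classical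
  let e := RingEquiv.ofBijective _ (bijective_awayZToBase hz hU)
  have h : ∀ a, τ (e.symm a) = a := fun a => by
    induction a using DirectSum.Decomposition.inductionOn (𝒮.deg U hU) with
    | zero => rw [map_zero, map_zero]
    | @homogeneous k m =>
      have hm : (ι.hom.app (op U)).hom (m : 𝒮.presheaf.obj (op U)) ∈ 𝒮h.deg U hU (k • 1) := by
        simpa using hz.graded U hU k m m.2
      let q := Away.mk (𝒮h.deg U hU) (hz.deg_z U hU) k ((ι.hom.app (op U)).hom (m : 𝒮.presheaf.obj (op U))) hm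
      have hq : e.symm (m : 𝒮.presheaf.obj (op U)) = q := by
        rw [RingEquiv.symm_apply_eq]
        exact ((awayZToBase_mk hz hU k _ hm).trans (hz.evalOne_ι U hU _)).symm
      rw [hq]
      exact hτ q k _ m.2 (Away.val_mk ..)
    | add a b ha hb => rw [map_add, map_add, ha, hb]
  ext q
  obtain ⟨a, rfl⟩ := e.symm.surjective q
  rw [h]
  exact (e.apply_symm_apply a).symm

theorem coneChart_res {U D : S.Opens} (hU : IsAffineOpen U) (hD : IsAffineOpen D) (i : D ≤ U)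
    (h : (𝒮h.deg D hD)₊ ≤ ((𝒮h.deg U hU)₊).map (𝒮h.res hU hD i)) :
    coneChart hz D hD ≫ Proj.map (𝒮h.res hU hD i) h =
      Spec.map (𝒮.presheaf.map (homOfLE i).op) ≫ coneChart hz U hU := by
  have gen : ∀ (w : 𝒮h.presheaf.obj (op D)) (hw : w ∈ 𝒮h.deg D hD 1), RelCone.restrictTop 𝒮h z D = w →
      ∃ τ : Away (𝒮h.deg D hD) w →+* 𝒮.presheaf.obj (op D),
        coneChart hz D hD = Spec.map (CommRingCat.ofHom τ) ≫ Proj.awayι (𝒮h.deg D hD) w hw one_pos ∧
        ∀ (n : ℕ) (x : 𝒮h.presheaf.obj (op D)) (hx : x ∈ 𝒮h.deg D hD (n • 1)),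
          τ (Away.mk (𝒮h.deg D hD) hw n x hx) = hz.evalOne D hD x := by
    rintro _ hw rfl
    exact ⟨hz.awayZToBase D hD, rfl, awayZToBase_mk hz hD⟩
  obtain ⟨τ, e, hτ⟩ := gen (𝒮h.res hU hD i (RelCone.restrictTop 𝒮h z U))
    ((𝒮h.res hU hD i).map_mem (hz.deg_z U hU)) (restrictTop_res z i).symm
  rw [e, Category.assoc, Proj.awayι_comp_map _ _ one_pos _ (hz.deg_z U hU), coneChart, ← Spec.map_comp_assoc,
    ← Spec.map_comp_assoc]
  congr 2
  ext q
  obtain ⟨n, x, hx, rfl⟩ := Away.mk_surjective (𝒮h.deg U hU) (hz.deg_z U hU) q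
  show τ (Away.map (𝒮h.res hU hD i) (RelCone.restrictTop 𝒮h z U) _) =
    (𝒮.presheaf.map (homOfLE i).op).hom (hz.awayZToBase U hU _)
  rw [Away.map_mk, hτ, awayZToBase_mk]
  exact evalOne_res hz hU hD i x

variable {PC : Scheme.{u}} {pC : PC ⟶ S}
  {chartC : ∀ (U : S.Opens) (hU : IsAffineOpen U), ((pC ⁻¹ᵁ U : PC.Opens) : Scheme.{u}) ≅ Proj (𝒮h.deg U hU)}
  (hPC : RelProj.IsRelProj 𝒮h pC chartC)

/-- The preimage of an affine open in the relative spectrum. -/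
noncomputable def specOver (A : RelSpec.QCAlg S) (U : S.Opens) (hU : IsAffineOpen U) :
    (A.π ⁻¹ᵁ U).toScheme ≅ Spec (A.presheaf.obj (op U)) :=
  IsOpenImmersion.isoOfRangeEq (A.π ⁻¹ᵁ U).ι (A.ι U hU) (by rw [Scheme.Opens.range_ι, A.π_preimage U hU]; rfl)

theorem specOver_ι (A : RelSpec.QCAlg S) (U : S.Opens) (hU : IsAffineOpen U) :
    (specOver A U hU).hom ≫ A.ι U hU = (A.π ⁻¹ᵁ U).ι :=
  IsOpenImmersion.lift_fac _ _ _

include hPC in
theorem existsUnique_coneImm : ∃! i : 𝒮.toQCAlg.spec ⟶ PC, RelCone.IsConeImm 𝒮 hz pC chartC i := by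
  obtain ⟨i, hi, huniq⟩ := RelProj11.existsUnique_glue 𝒮.toQCAlg.π
    (fun U hU => (specOver 𝒮.toQCAlg U hU).hom ≫ coneChart hz U hU ≫ RelProj.emb pC chartC U hU) fun U hU r => by
      have hD := hU.basicOpen r
      have hle := S.basicOpen_le r
      have e1 : (specOver 𝒮.toQCAlg (S.basicOpen r) hD).hom ≫ Spec.map (𝒮.presheaf.map (homOfLE hle).op) =
          𝒮.toQCAlg.spec.homOfLE (𝒮.toQCAlg.π.preimage_mono hle) ≫ (specOver 𝒮.toQCAlg U hU).hom := by
        rw [← cancel_mono (𝒮.toQCAlg.ι U hU), Category.assoc, Category.assoc, specOver_ι,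
          ι_res_eq 𝒮.toQCAlg hU hD r rfl, specOver_ι, Scheme.homOfLE_ι]
      have e2 : RelProj.emb pC chartC (S.basicOpen r) hD =
          Proj.map (𝒮h.res hU hD hle) (𝒮h.irrelevant_le_map U hU r) ≫ RelProj.emb pC chartC U hU := by
        have h' : Proj.map (𝒮h.res hU hD hle) (𝒮h.irrelevant_le_map U hU r) ≫ (chartC U hU).inv =
            (chartC (S.basicOpen r) hD).inv ≫ PC.homOfLE (pC.preimage_mono hle) := by
          rw [Iso.comp_inv_eq, Category.assoc, hPC.chart_res U hU r, Iso.inv_hom_id_assoc]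
        rw [RelProj.emb, RelProj.emb, reassoc_of% h', Scheme.homOfLE_ι]
      rw [← Category.assoc, ← e1, Category.assoc, ← reassoc_of% coneChart_res hz hU hD hle (𝒮h.irrelevant_le_map U hU r),
        ← e2]
  refine ⟨i, fun U hU => ?_, fun i' hi' => huniq i' fun U hU => ?_⟩
  · have h := hi U hU
    rw [← specOver_ι 𝒮.toQCAlg U hU, Category.assoc, cancel_epi] at h
    rw [h, coneChart, Category.assoc]
  · rw [← specOver_ι 𝒮.toQCAlg U hU, Category.assoc, hi' U hU, coneChart, Category.assoc]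

variable {i : 𝒮.toQCAlg.spec ⟶ PC} (hi : RelCone.IsConeImm 𝒮 hz pC chartC i)

include hPC hi in
theorem coneImm_restrict (U : S.Opens) (hU : IsAffineOpen U) :
    ∃ e : (i ⁻¹ᵁ (pC ⁻¹ᵁ U)).toScheme ≅ Spec (𝒮.presheaf.obj (op U)),
      i ∣_ (pC ⁻¹ᵁ U) = e.hom ≫ coneChart hz U hU ≫ (chartC U hU).inv := by
  have hpre : i ⁻¹ᵁ (pC ⁻¹ᵁ U) = 𝒮.toQCAlg.π ⁻¹ᵁ U := by
    rw [← Scheme.Hom.comp_preimage, coneImm_comp hz hPC hi]
  refine ⟨𝒮.toQCAlg.spec.isoOfEq hpre ≪≫ specOver 𝒮.toQCAlg U hU, ?_⟩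
  rw [← cancel_mono (pC ⁻¹ᵁ U).ι, morphismRestrict_ι]
  simp only [Iso.trans_hom, Category.assoc]
  rw [← RelProj.emb, ← ι_coneImm hz hi U hU, reassoc_of% specOver_ι, Scheme.isoOfEq_hom_ι_assoc]

include hPC hi in
theorem coneImm_of_forall (Q : MorphismProperty Scheme.{u}) [IsZariskiLocalAtTarget Q]
    (h : ∀ (U : S.Opens) (hU : IsAffineOpen U), Q (coneChart hz U hU)) : Q i := by
  refine (IsZariskiLocalAtTarget.iff_of_iSup_eq_top (P := Q) (fun U : S.affineOpens => pC ⁻¹ᵁ U.1) ?_).2 fun U => ?_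
  · exact top_le_iff.1 fun x _ => by
      obtain ⟨U, hU, hx⟩ := RelProj11.exists_mem_preimage (p := pC) x
      exact Opens.mem_iSup.2 ⟨⟨U, hU⟩, hx⟩
  obtain ⟨e, he⟩ := coneImm_restrict hz hPC hi U.1 U.2
  rw [he, Q.cancel_left_of_respectsIso, Q.cancel_right_of_respectsIso]
  exact h U.1 U.2

theorem coneChart_eq {U : S.Opens} (hU : IsAffineOpen U) :
    coneChart hz U hU = (Spec.map (CommRingCat.ofHom (hz.awayZToBase U hU)) ≫
      (Proj.basicOpenIsoSpec (𝒮h.deg U hU) _ (hz.deg_z U hU) one_pos).inv) ≫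
      (Proj.basicOpen (𝒮h.deg U hU) (RelCone.restrictTop 𝒮h z U)).ι := by
  rw [coneChart, Proj.awayι, Category.assoc]

theorem isAffineHom_coneChart {U : S.Opens} (hU : IsAffineOpen U) : IsAffineHom (coneChart hz U hU) := by
  haveI := isIso_specMap_awayZToBase hz hU
  haveI := RelProj11.isAffineHom_basicOpen_ι (𝒮h.deg U hU) (hz.deg_z U hU)
  rw [coneChart_eq]; infer_instance

theorem ker_coneChart {U : S.Opens} (hU : IsAffineOpen U) : (coneChart hz U hU).ker = ⊥ := by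
  haveI := isIso_specMap_awayZToBase hz hU
  rw [coneChart_eq, Scheme.Hom.ker_comp_of_isIso]
  exact RelProj11.ker_basicOpen_ι _ (hz.deg_z U hU) (nonZeroDivisor_z hz hU)

include hPC hi in
theorem coneImm_properties : IsOpenImmersion i ∧ IsAffineHom i ∧ i.ker = ⊥ := by
  have haff : IsAffineHom i := coneImm_of_forall hz hPC hi @IsAffineHom fun U hU => isAffineHom_coneChart hz hU
  refine ⟨coneImm_of_forall hz hPC hi @IsOpenImmersion fun U hU => isOpenImmersion_coneChart hz hU, haff, ?_⟩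
  let I := {W : PC.affineOpens // ∃ (U : S.Opens) (_ : IsAffineOpen U), (W : PC.Opens) ≤ pC ⁻¹ᵁ U}
  refine Scheme.IdealSheafData.ext_of_iSup_eq_top (fun W : I => W.1) (top_le_iff.1 fun x _ => ?_) fun W => ?_
  · obtain ⟨U, hU, hx⟩ := RelProj11.exists_mem_preimage (p := pC) x
    obtain ⟨W, hW, hxW, hWU⟩ := exists_isAffineOpen_mem_and_subset (U := pC ⁻¹ᵁ U) (x := x) hx
    exact Opens.mem_iSup.2 ⟨⟨⟨W, hW⟩, U, hU, hWU⟩, hxW⟩
  obtain ⟨⟨W, hW⟩, U, hU, hWU⟩ := W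
  obtain ⟨e, he⟩ := coneImm_restrict hz hPC hi U hU
  have hker : (i ∣_ (pC ⁻¹ᵁ U)).ker = ⊥ := by
    haveI : IsSchemeTheoreticallyDominant (coneChart hz U hU) := ⟨ker_coneChart hz hU⟩
    rw [he]
    exact Scheme.Hom.ker_eq_bot _
  let V : (pC ⁻¹ᵁ U).toScheme.affineOpens :=
    ⟨(pC ⁻¹ᵁ U).ι ⁻¹ᵁ W, hW.preimage_of_isOpenImmersion _ (by rw [Scheme.Opens.opensRange_ι]; exact hWU)⟩
  have h1 := Scheme.ker_morphismRestrict_ideal i (pC ⁻¹ᵁ U) V
  rw [hker] at h1
  have gen : ∀ (W' : PC.affineOpens), W'.1 = W → i.ker.ideal W' = ⊥ → i.ker.ideal ⟨W, hW⟩ = ⊥ := by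
    rintro ⟨_, _⟩ rfl h; exact h
  refine (gen _ (by
    show (pC ⁻¹ᵁ U).ι ''ᵁ ((pC ⁻¹ᵁ U).ι ⁻¹ᵁ W) = W
    rw [Scheme.Hom.image_preimage_eq_opensRange_inf, Scheme.Opens.opensRange_ι, inf_eq_right.2 hWU])
    (h1.symm.trans (by simp; rfl))).trans (by simp)

end Groth.Agent.RelCone11
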