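import Mathlib.RingTheory.GradedAlgebra.HomogeneousLocalization
import Mathlib.RingTheory.GradedAlgebra.Homogeneous.Maps
import Mathlib.Algebra.Polynomial.Eval.Coeff
import Mathlib.Algebra.Polynomial.Degree.Lemmas

/-!
Graded rings of the form `𝒜[z]`, `z` in degree one.
-/

universe u

open Polynomial HomogeneousLocalization
open scoped HomogeneousIdeal

namespace Groth.Agent.RelCone11

variable {A B : Type u} [CommRing A] [CommRing B]
  {𝒜 : ℕ → AddSubgroup A} {ℬ : ℕ → AddSubgroup B} [GradedRing 𝒜] [GradedRing ℬ]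
  (η : 𝒜 →+*ᵍ ℬ) {z : B} (hz : z ∈ ℬ 1)
  (hbij : Function.Bijective (Polynomial.eval₂RingHom (η : A →+* B) z))

open scoped Classical in
include hz in
/-- The degree `k` part of the value of a polynomial. -/
theorem decompose_eval₂ (k : ℕ) (P : A[X]) :
    (DirectSum.decompose ℬ (P.eval₂ (η : A →+* B) z) k : B) =
      ∑ j ∈ Finset.range (k + 1), η (DirectSum.decompose 𝒜 (P.coeff j) (k - j) : A) * z ^ j := by
  induction P using Polynomial.induction_on' with
  | add p q hp hq =>
    rw [Polynomial.eval₂_add, DirectSum.decompose_add, DirectSum.add_apply, AddMemClass.coe_add, hp, hq,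
      ← Finset.sum_add_distrib]
    refine Finset.sum_congr rfl fun j _ => ?_
    rw [Polynomial.coeff_add, DirectSum.decompose_add, DirectSum.add_apply, AddMemClass.coe_add, map_add, add_mul]
  | monomial j a =>
    rw [Polynomial.eval₂_monomial]
    show (DirectSum.decompose ℬ (η a * z ^ j) k : B) = _
    by_cases hjk : j ≤ k
    · rw [DirectSum.coe_decompose_mul_of_right_mem_of_le ℬ (by simpa using SetLike.pow_mem_graded j hz) hjk,
        ← GradedRingHom.map_directSumDecompose]
      rw [Finset.sum_eq_single_of_mem j (Finset.mem_range.2 (Nat.lt_succ_of_le hjk)) (fun i _ hi => by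
        rw [Polynomial.coeff_monomial, if_neg (Ne.symm hi), DirectSum.decompose_zero]; simp)]
      rw [Polynomial.coeff_monomial, if_pos rfl]
    · rw [DirectSum.coe_decompose_mul_of_right_mem_of_not_le ℬ (by simpa using SetLike.pow_mem_graded j hz) hjk]
      refine (Finset.sum_eq_zero fun i hi => ?_).symm
      rw [Polynomial.coeff_monomial, if_neg (by have := Finset.mem_range.1 hi; omega), DirectSum.decompose_zero]
      simp

include hz hbij in
/-- The coefficients of a homogeneous element. -/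
theorem coeff_mem {k : ℕ} {P : A[X]} (hP : P.eval₂ (η : A →+* B) z ∈ ℬ k) (j : ℕ) :
    (j ≤ k → P.coeff j ∈ 𝒜 (k - j)) ∧ (k < j → P.coeff j = 0) := by
  classical
  let Q : A[X] := ∑ j ∈ Finset.range (k + 1), Polynomial.monomial j (DirectSum.decompose 𝒜 (P.coeff j) (k - j) : A)
  have hQ : Q = P := hbij.1 (by
    show Q.eval₂ (η : A →+* B) z = P.eval₂ (η : A →+* B) z
    rw [← DirectSum.decompose_of_mem_same ℬ hP, decompose_eval₂ η hz]
    simp only [Q, Polynomial.eval₂_finsetSum, Polynomial.eval₂_monomial]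
    rfl)
  have hc : ∀ i, P.coeff i = if i ≤ k then (DirectSum.decompose 𝒜 (P.coeff i) (k - i) : A) else 0 := by
    intro i
    conv_lhs => rw [← hQ]
    simp only [Q, Polynomial.finsetSum_coeff, Polynomial.coeff_monomial]
    rw [Finset.sum_ite_eq']
    simp [Nat.lt_succ_iff]
  constructor
  · intro h
    rw [hc j, if_pos h]
    exact SetLike.coe_mem _
  · intro h
    rw [hc j, if_neg (by omega)]

include hbij in
theorem exists_eq_eval₂ (x : B) : ∃ P : A[X], P.eval₂ (η : A →+* B) z = x := hbij.2 x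

include hz hbij in
/-- A homogeneous element of degree `k` is `∑ η(a_j) z ^ j` with `a_j` of degree `k - j`. -/
theorem exists_sum {k : ℕ} {x : B} (hx : x ∈ ℬ k) :
    ∃ a : ℕ → A, (∀ j, j ≤ k → a j ∈ 𝒜 (k - j)) ∧ x = ∑ j ∈ Finset.range (k + 1), η (a j) * z ^ j := by
  classical
  obtain ⟨P, rfl⟩ := hbij.2 x
  refine ⟨fun j => P.coeff j, fun j hj => (coeff_mem η hz hbij hx j).1 hj, ?_⟩
  show P.eval₂ (η : A →+* B) z = _
  refine Polynomial.eval₂_eq_sum_range' _ ?_ _
  by_contra h
  have h1 := (coeff_mem η hz hbij hx P.natDegree).2 (by omega)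
  have h2 : P ≠ 0 := fun e => by simp [e] at h
  exact h2 (Polynomial.leadingCoeff_eq_zero.1 h1)

include hbij in
theorem sub_mem_span (ϑ : B →+* A) (hϑ : ∀ a, ϑ (η a) = a) (hϑz : ϑ z = 0) (t : B) :
    t - η (ϑ t) ∈ Ideal.span ({z} : Set B) := by
  obtain ⟨P, rfl⟩ := hbij.2 t
  show P.eval₂ (η : A →+* B) z - η (ϑ (P.eval₂ (η : A →+* B) z)) ∈ _
  induction P using Polynomial.induction_on' with
  | add p q hp hq =>
    rw [Polynomial.eval₂_add, map_add, map_add, add_sub_add_comm]
    exact add_mem hp hq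
  | monomial j a =>
    rw [Polynomial.eval₂_monomial, map_mul, map_pow, hϑz]
    rcases j with _ | j
    · simp [hϑ a]
    · rw [zero_pow (Nat.succ_ne_zero j), mul_zero, map_zero, sub_zero, pow_succ, ← mul_assoc]
      exact Ideal.mul_mem_left _ _ (Ideal.mem_span_singleton_self z)

include hz hbij in
/-- The irrelevant ideal is generated by `η(𝒜₊)` and `z`. -/
theorem irrelevant_le {I : Ideal B} (hI : ∀ a ∈ (𝒜₊).toIdeal, η a ∈ I) (hzI : z ∈ I) :
    (ℬ₊).toIdeal ≤ I := by
  refine (HomogeneousIdeal.toIdeal_irrelevant_le _).2 fun k hk x hx => ?_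
  obtain ⟨a, ha, rfl⟩ := exists_sum η hz hbij hx
  refine sum_mem fun j hj => ?_
  rcases j with _ | j
  · rw [pow_zero, mul_one]
    exact hI _ (HomogeneousIdeal.mem_irrelevant_of_mem _ hk (by simpa using ha 0 (Nat.zero_le _)))
  · rw [pow_succ, ← mul_assoc]
    exact Ideal.mul_mem_left _ _ hzI

include hz hbij in
/-- Setting `z = 1` is a bijection from the degree zero part of the localization at `z`. -/
theorem bijective_awayToBase (τ : Away ℬ z →+* A) (ev : B →+* A) (hev : ∀ a, ev (η a) = a) (hevz : ev z = 1)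
    (hτ : ∀ (n : ℕ) (x : B) (hx : x ∈ ℬ (n • 1)), τ (Away.mk ℬ hz n x hx) = ev x) :
    Function.Bijective τ := by
  classical
  constructor
  · rw [injective_iff_map_eq_zero]
    intro q hq
    obtain ⟨n, x, hx, rfl⟩ := Away.mk_surjective ℬ hz q
    rw [hτ] at hq
    suffices x = 0 by subst this; apply val_injective; simp [Away.val_mk, Localization.mk_zero]
    obtain ⟨a, ha, hxa⟩ := exists_sum η hz hbij (show x ∈ ℬ n by simpa using hx)
    have h0 : ∑ j ∈ Finset.range (n + 1), a j = 0 := by
      rw [← hq, hxa, map_sum]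
      exact Finset.sum_congr rfl fun j _ => by rw [map_mul, map_pow, hev, hevz, one_pow, mul_one]
    rw [hxa]
    refine Finset.sum_eq_zero fun i hi => ?_
    have h1 : (DirectSum.decompose 𝒜 (∑ j ∈ Finset.range (n + 1), a j) (n - i) : A) = 0 := by rw [h0]; simp
    rw [DirectSum.decompose_sum, DFinsupp.finsetSum_apply, AddSubmonoidClass.coe_finsetSum,
      Finset.sum_eq_single_of_mem i hi (fun j hj hji => DirectSum.decompose_of_mem_ne 𝒜
        (ha j (Nat.lt_succ_iff.1 (Finset.mem_range.1 hj)))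
        (by have := Finset.mem_range.1 hj; have := Finset.mem_range.1 hi; omega)),
      DirectSum.decompose_of_mem_same 𝒜 (ha i (Nat.lt_succ_iff.1 (Finset.mem_range.1 hi)))] at h1
    rw [h1, map_zero, zero_mul]
  · intro a
    induction a using DirectSum.Decomposition.inductionOn 𝒜 with
    | zero => exact ⟨0, map_zero τ⟩
    | homogeneous m =>
      refine ⟨Away.mk ℬ hz _ (η m) (by simpa using η.map_mem m.2), ?_⟩
      rw [hτ, hev]
    | add a b ha hb =>
      obtain ⟨p, hp⟩ := ha
      obtain ⟨q, hq⟩ := hb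
      exact ⟨p + q, by rw [map_add, hp, hq]⟩

end Groth.Agent.RelCone11
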