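import Groth.Agent.Lib.RelCone11.Pointed
import Groth.Agent.Lib.RelCone11.Poly

/-!
The affine cone as an open subscheme of the projective cone.
-/

universe u

open CategoryTheory CategoryTheory.Limits AlgebraicGeometry TopologicalSpace Opposite HomogeneousLocalization
open scoped HomogeneousIdeal

namespace Groth.Agent.RelCone11

theorem hom_ext_spec {S Z : Scheme.{u}} (A : RelSpec.QCAlg S) (f g : A.spec ⟶ Z)
    (h : ∀ (U : S.Opens) (hU : IsAffineOpen U), A.ι U hU ≫ f = A.ι U hU ≫ g) : f = g :=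
  colimit.hom_ext fun U => h U.1 U.2

section Emb

variable {S P : Scheme.{u}} {𝒮 : RelProj.QCGrAlg S} {p : P ⟶ S}
  {chart : ∀ (U : S.Opens) (hU : IsAffineOpen U), ((p ⁻¹ᵁ U : P.Opens) : Scheme.{u}) ≅ Proj (𝒮.deg U hU)}

theorem emb_comp (hP : RelProj.IsRelProj 𝒮 p chart) (U : S.Opens) (hU : IsAffineOpen U) :
    RelProj.emb p chart U hU ≫ p = Proj.toSpecZero (𝒮.deg U hU) ≫ Spec.map (𝒮.strZero U hU) ≫ hU.fromSpec := by
  rw [RelProj.emb, Category.assoc, ← hP.chart_over U hU, Iso.inv_hom_id_assoc]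

variable (chart) in
theorem emb_mem (U : S.Opens) (hU : IsAffineOpen U) (y : Proj (𝒮.deg U hU)) :
    RelProj.emb p chart U hU y ∈ p ⁻¹ᵁ U :=
  ((chart U hU).inv y).2

variable (chart) in
theorem exists_emb (x : P) : ∃ (U : S.Opens) (hU : IsAffineOpen U) (y : Proj (𝒮.deg U hU)),
    RelProj.emb p chart U hU y = x := by
  obtain ⟨U, hU, hx⟩ := RelProj11.exists_mem_preimage (p := p) x
  refine ⟨U, hU, (chart U hU).hom ⟨x, hx⟩, ?_⟩
  rw [RelProj.emb, ← Scheme.Hom.comp_apply, Iso.hom_inv_id_assoc]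
  rfl

variable (chart) in
theorem emb_injective (U : S.Opens) (hU : IsAffineOpen U) : Function.Injective (RelProj.emb p chart U hU) := by
  rw [RelProj.emb]
  exact ((chart U hU).inv ≫ (p ⁻¹ᵁ U).ι).isOpenEmbedding.injective

end Emb

section Cone

variable {S : Scheme.{u}} {𝒮 𝒮h : RelProj.QCGrAlg S} {ι : 𝒮.toQCAlg ⟶ 𝒮h.toQCAlg}
  {z : 𝒮h.presheaf.obj (op ⊤)} (hz : RelCone.IsPolyOver 𝒮 𝒮h ι z)

theorem awayZToBase_mk {U : S.Opens} (hU : IsAffineOpen U) (n : ℕ) (x : 𝒮h.presheaf.obj (op U))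
    (hx : x ∈ 𝒮h.deg U hU (n • 1)) :
    hz.awayZToBase U hU (Away.mk (𝒮h.deg U hU) (hz.deg_z U hU) n x hx) = hz.evalOne U hU x :=
  hz.awayZToBase_of_val U hU _ x n (Away.val_mk ..)

theorem bijective_awayZToBase {U : S.Opens} (hU : IsAffineOpen U) :
    Function.Bijective (hz.awayZToBase U hU) :=
  bijective_awayToBase (RelProj.gradedHomAt ι hz.graded U hU) (hz.deg_z U hU) (hz.bij U hU) _
    (hz.evalOne U hU) (hz.evalOne_ι U hU) (hz.evalOne_z U hU) (awayZToBase_mk hz hU)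

theorem isIso_specMap_awayZToBase {U : S.Opens} (hU : IsAffineOpen U) :
    IsIso (Spec.map (CommRingCat.ofHom (hz.awayZToBase U hU))) := by
  haveI : IsIso (CommRingCat.ofHom (hz.awayZToBase U hU)) :=
    (ConcreteCategory.isIso_iff_bijective _).2 (bijective_awayZToBase hz hU)
  infer_instance

/-- The chart of the affine cone inside `Proj 𝒮h(U)`. -/
noncomputable def coneChart (U : S.Opens) (hU : IsAffineOpen U) :
    Spec (𝒮.presheaf.obj (op U)) ⟶ Proj (𝒮h.deg U hU) :=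
  Spec.map (CommRingCat.ofHom (hz.awayZToBase U hU)) ≫
    Proj.awayι (𝒮h.deg U hU) (RelCone.restrictTop 𝒮h z U) (hz.deg_z U hU) one_pos

theorem isOpenImmersion_coneChart {U : S.Opens} (hU : IsAffineOpen U) :
    IsOpenImmersion (coneChart hz U hU) := by
  haveI := isIso_specMap_awayZToBase hz hU
  rw [coneChart]; infer_instance

theorem range_coneChart {U : S.Opens} (hU : IsAffineOpen U) :
    Set.range (coneChart hz U hU) =
      (Proj.basicOpen (𝒮h.deg U hU) (RelCone.restrictTop 𝒮h z U) : Set (Proj (𝒮h.deg U hU))) := by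
  haveI := isIso_specMap_awayZToBase hz hU
  rw [← Proj.opensRange_awayι (𝒮h.deg U hU) _ (hz.deg_z U hU) one_pos, coneChart,
    ← Scheme.Hom.coe_opensRange, Scheme.Hom.opensRange_comp_of_isIso]

theorem coneChart_toSpecZero {U : S.Opens} (hU : IsAffineOpen U) :
    coneChart hz U hU ≫ Proj.toSpecZero (𝒮h.deg U hU) ≫ Spec.map (𝒮h.strZero U hU) =
      Spec.map (𝒮.str.app (op U)) := by
  rw [coneChart, Category.assoc, Proj.awayι_toSpecZero_assoc, ← Spec.map_comp, ← Spec.map_comp]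
  congr 1
  ext r
  show hz.awayZToBase U hU (fromZeroRingHom (𝒮h.deg U hU) _ ((𝒮h.strZero U hU).hom r)) = (𝒮.str.app (op U)).hom r
  rw [hz.awayZToBase_of_val U hU _ ((𝒮h.str.app (op U)).hom r) 0]
  · conv_rhs => rw [← hz.evalOne_ι U hU ((𝒮.str.app (op U)).hom r)]
    exact congrArg _ (ConcreteCategory.congr_hom (NatTrans.congr_app ι.comm (op U)) r).symm
  · simp [fromZeroRingHom]
    rfl

variable {PC : Scheme.{u}} {pC : PC ⟶ S}
  {chartC : ∀ (U : S.Opens) (hU : IsAffineOpen U), ((pC ⁻¹ᵁ U : PC.Opens) : Scheme.{u}) ≅ Proj (𝒮h.deg U hU)}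
  (hPC : RelProj.IsRelProj 𝒮h pC chartC) {i : 𝒮.toQCAlg.spec ⟶ PC} (hi : RelCone.IsConeImm 𝒮 hz pC chartC i)

include hi in
theorem ι_coneImm (U : S.Opens) (hU : IsAffineOpen U) :
    𝒮.toQCAlg.ι U hU ≫ i = coneChart hz U hU ≫ RelProj.emb pC chartC U hU := by
  rw [hi U hU, coneChart, Category.assoc]

include hPC hi in
theorem coneImm_comp : i ≫ pC = 𝒮.toQCAlg.π := by
  refine hom_ext_spec _ _ _ fun U hU => ?_
  rw [← Category.assoc, ι_coneImm hz hi U hU, Category.assoc, emb_comp hPC, reassoc_of% coneChart_toSpecZero,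
    RelSpec.QCAlg.ι_π]

include hPC hi in
theorem mem_range_coneImm_iff {U : S.Opens} (hU : IsAffineOpen U) (T : Set (Spec (𝒮.presheaf.obj (op U))))
    (Z : Set 𝒮.toQCAlg.spec) (hT : ∀ q, 𝒮.toQCAlg.ι U hU q ∈ Z ↔ q ∈ T) (y : Proj (𝒮h.deg U hU)) :
    RelProj.emb pC chartC U hU y ∈ i '' Z ↔ y ∈ coneChart hz U hU '' T := by
  constructor
  · rintro ⟨c, hc, he⟩
    have hcU : 𝒮.toQCAlg.π c ∈ U := by
      rw [← coneImm_comp hz hPC hi, Scheme.Hom.comp_apply, he]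
      exact emb_mem chartC U hU y
    obtain ⟨q, rfl⟩ := mem_range_ι 𝒮.toQCAlg hU c hcU
    rw [← Scheme.Hom.comp_apply, ι_coneImm hz hi U hU, Scheme.Hom.comp_apply] at he
    exact ⟨q, (hT q).1 hc, emb_injective chartC U hU he⟩
  · rintro ⟨q, hq, rfl⟩
    exact ⟨_, (hT q).2 hq, by rw [← Scheme.Hom.comp_apply, ι_coneImm hz hi U hU, Scheme.Hom.comp_apply]⟩

include hPC hi in
theorem emb_mem_range_coneImm_iff {U : S.Opens} (hU : IsAffineOpen U) (y : Proj (𝒮h.deg U hU)) :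
    RelProj.emb pC chartC U hU y ∈ Set.range i ↔
      RelCone.restrictTop 𝒮h z U ∉ y.asHomogeneousIdeal := by
  rw [← Set.image_univ, mem_range_coneImm_iff hz hPC hi hU Set.univ Set.univ (fun _ => Iff.rfl),
    Set.image_univ, range_coneChart]
  exact Iff.rfl

section Retraction

variable {θ : 𝒮h.toQCAlg ⟶ 𝒮.toQCAlg} {hθ : RelProj.IsGradedHom θ}
  {hirr : ∀ (U : S.Opens) (hU : IsAffineOpen U),
    (𝒮.deg U hU)₊ ≤ ((𝒮h.deg U hU)₊).map (RelProj.gradedHomAt θ hθ U hU)}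
  {P : Scheme.{u}} {p : P ⟶ S}
  {chart : ∀ (U : S.Opens) (hU : IsAffineOpen U), ((p ⁻¹ᵁ U : P.Opens) : Scheme.{u}) ≅ Proj (𝒮.deg U hU)}
  (hP : RelProj.IsRelProj 𝒮 p chart) {j : P ⟶ PC} (hj : RelProj.IsRelProjMap θ hθ hirr chartC chart j)

include hz in
theorem mem_range_map_iff (hιθ : ι ≫ θ = 𝟙 _) (hθz : (θ.hom.app (op ⊤)).hom z = 0) {U : S.Opens}
    (hU : IsAffineOpen U) (y : Proj (𝒮h.deg U hU)) :
    y ∈ Set.range (Proj.map (RelProj.gradedHomAt θ hθ U hU) (hirr U hU)) ↔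
      RelCone.restrictTop 𝒮h z U ∈ y.asHomogeneousIdeal := by
  let ψ := RelProj.gradedHomAt θ hθ U hU
  let η := RelProj.gradedHomAt ι hz.graded U hU
  have hret : ∀ a, ψ (η a) = a := fun a =>
    ConcreteCategory.congr_hom (NatTrans.congr_app (congrArg RelSpec.QCAlg.Hom.hom hιθ) (op U)) a
  have hψz : ψ (RelCone.restrictTop 𝒮h z U) = 0 := by
    have h1 := ConcreteCategory.congr_hom (θ.hom.naturality (homOfLE (le_top : U ≤ ⊤)).op) z
    simp only [CommRingCat.comp_apply] at h1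
    exact h1.trans (by rw [hθz, map_zero])
  constructor
  · rintro ⟨x, rfl⟩
    show ψ (RelCone.restrictTop 𝒮h z U) ∈ x.asHomogeneousIdeal
    rw [hψz]
    exact zero_mem _
  · intro hzy
    have hnot : ¬ (𝒮.deg U hU)₊ ≤ y.asHomogeneousIdeal.comap η := fun hle => y.not_irrelevant_le
      (irrelevant_le η (hz.deg_z U hU) (hz.bij U hU) (I := y.asHomogeneousIdeal.toIdeal) (fun a ha => hle ha) hzy)
    refine ⟨⟨y.asHomogeneousIdeal.comap η, y.isPrime.comap _, hnot⟩, ProjectiveSpectrum.ext (HomogeneousIdeal.ext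
      (Ideal.ext fun t => ?_))⟩
    show η (ψ t) ∈ y.asHomogeneousIdeal ↔ t ∈ y.asHomogeneousIdeal
    have h1 : t - η (ψ t) ∈ y.asHomogeneousIdeal.toIdeal :=
      (Ideal.span_le.2 (Set.singleton_subset_iff.2 hzy))
        (sub_mem_span η (hz.bij U hU) ψ.toRingHom hret hψz t)
    constructor
    · intro h
      have h' : η (ψ t) ∈ y.asHomogeneousIdeal.toIdeal := h
      show t ∈ y.asHomogeneousIdeal.toIdeal
      rw [← sub_add_cancel t (η (ψ t))]
      exact add_mem h1 h'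
    · intro h
      have h' : t ∈ y.asHomogeneousIdeal.toIdeal := h
      show η (ψ t) ∈ y.asHomogeneousIdeal.toIdeal
      rw [← sub_sub_cancel t (η (ψ t))]
      exact sub_mem h' h1

include hPC hi hP hj in
theorem range_coneImm_eq (hιθ : ι ≫ θ = 𝟙 _) (hθz : (θ.hom.app (op ⊤)).hom z = 0) :
    Set.range i = (Set.range j)ᶜ := by
  ext x
  obtain ⟨U, hU, y, rfl⟩ := exists_emb chartC x
  rw [emb_mem_range_coneImm_iff hz hPC hi hU y, Set.mem_compl_iff, not_iff_not, ← mem_range_map_iff hz (hirr := hirr) hιθ hθz hU y]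
  constructor
  · rintro ⟨w, rfl⟩
    refine ⟨RelProj.emb p chart U hU w, ?_⟩
    rw [RelProj.emb, ← Scheme.Hom.comp_apply, Category.assoc, hj U hU, Iso.inv_hom_id_assoc, ← Scheme.Hom.comp_apply]
    rfl
  · rintro ⟨w, hw⟩
    have hwU : w ∈ p ⁻¹ᵁ U := by
      show p w ∈ U
      rw [← RelProj11.isRelProjMap_comp hPC hP hj, Scheme.Hom.comp_apply, hw]
      exact emb_mem chartC U hU y
    refine ⟨(chart U hU).hom ⟨w, hwU⟩, emb_injective chartC U hU ?_⟩
    rw [← hw]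
    exact (congr($(hj U hU) (⟨w, hwU⟩ : (p ⁻¹ᵁ U).toScheme))).symm

end Retraction

include hPC hi in
theorem pointedProjCone_eq_compl (h0 : RelCone.StrZeroBij 𝒮) {aug : 𝒮.toQCAlg ⟶ RelSpec.QCAlg.unit S}
    (haug : RelCone.IsAugmentation 𝒮 aug) {ε : S ⟶ 𝒮.toQCAlg.spec} (hε : RelCone.IsVertex 𝒮 aug ε) :
    ((RelCone.pointedProjCone 𝒮 hz pC chartC : PC.Opens) : Set PC) = (Set.range (ε ≫ i))ᶜ := by
  have key : ∀ (U : S.Opens) (hU : IsAffineOpen U) (y : Proj (𝒮h.deg U hU)),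
      RelProj.emb pC chartC U hU y ∈ Set.range (ε ≫ i) ↔
        y ∉ RelCone.domOpen (RelProj.gradedHomAt ι hz.graded U hU) := by
    intro U hU y
    let η := RelProj.gradedHomAt ι hz.graded U hU
    have hv : ∀ q, 𝒮.toQCAlg.ι U hU q ∈ Set.range ε ↔ q ∈ {q : Spec (𝒮.presheaf.obj (op U)) |
        ((𝒮.deg U hU)₊).toIdeal ≤ q.asIdeal} := fun q => by
      have h1 : 𝒮.toQCAlg.ι U hU q ∈ ((RelCone.pointedCone 𝒮 : 𝒮.toQCAlg.spec.Opens) : Set _) ↔
          𝒮.toQCAlg.ι U hU q ∈ (Set.range ε.base)ᶜ := by rw [pointedCone_eq_compl 𝒮 aug h0 haug hε]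
      rw [SetLike.mem_coe, mem_pointedCone_iff 𝒮 hU, mem_vertexCompl, Set.mem_compl_iff, not_iff_not] at h1
      exact h1.symm
    have hdom : y ∉ RelCone.domOpen η ↔ ∀ f ∈ ((𝒮.deg U hU)₊).toIdeal, η f ∈ y.asHomogeneousIdeal := by
      rw [RelCone.mem_domOpen]
      push Not
      exact Iff.rfl
    have hmem : ∀ (q : Spec (𝒮.presheaf.obj (op U))) (n : ℕ), 0 < n → ∀ a ∈ 𝒮.deg U hU n,
        (η a ∈ (coneChart hz U hU q).asHomogeneousIdeal ↔ a ∈ q.asIdeal) := by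
      intro q n hn a ha
      rw [← not_iff_not]
      show coneChart hz U hU q ∈ Proj.basicOpen (𝒮h.deg U hU) (η a) ↔ _
      rw [← Scheme.Hom.mem_preimage, coneChart, Scheme.Hom.comp_preimage]
      erw [Proj.awayι_preimage_basicOpen (𝒜 := 𝒮h.deg U hU) (hz.deg_z U hU) one_pos (η.map_mem ha) hn]
      show hz.awayZToBase U hU _ ∉ q.asIdeal ↔ _
      rw [Away.isLocalizationElem, awayZToBase_mk, pow_one]
      exact not_congr (by erw [hz.evalOne_ι])
    rw [Scheme.Hom.comp_base, TopCat.coe_comp, Set.range_comp,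
      mem_range_coneImm_iff hz hPC hi hU _ _ hv, hdom]
    constructor
    · rintro ⟨q, hq, rfl⟩ f hf
      have h2 : ((𝒮.deg U hU)₊).toIdeal ≤ Ideal.comap η (coneChart hz U hU q).asHomogeneousIdeal.toIdeal :=
        (HomogeneousIdeal.toIdeal_irrelevant_le _).2 fun n hn a ha =>
          (hmem q n hn a ha).2 (hq (HomogeneousIdeal.mem_irrelevant_of_mem _ hn ha))
      exact h2 hf
    · intro hy
      have hzy : RelCone.restrictTop 𝒮h z U ∉ y.asHomogeneousIdeal := fun hzy => y.not_irrelevant_le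
        (irrelevant_le η (hz.deg_z U hU) (hz.bij U hU) (I := y.asHomogeneousIdeal.toIdeal) hy hzy)
      obtain ⟨q, rfl⟩ : y ∈ Set.range (coneChart hz U hU) := by rw [range_coneChart]; exact hzy
      refine ⟨q, ?_, rfl⟩
      exact (HomogeneousIdeal.toIdeal_irrelevant_le _).2 fun n hn a ha =>
        (hmem q n hn a ha).1 (hy a (HomogeneousIdeal.mem_irrelevant_of_mem _ hn ha))
  ext x
  rw [SetLike.mem_coe, Set.mem_compl_iff]
  constructor
  · intro hx
    obtain ⟨⟨V, hV⟩, y, hy, rfl⟩ := Opens.mem_iSup.1 hx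
    exact fun h => (key V hV y).1 h hy
  · intro hx
    obtain ⟨U, hU, y, rfl⟩ := exists_emb chartC x
    exact Opens.mem_iSup.2 ⟨⟨U, hU⟩, y, by_contra fun h => hx ((key U hU y).2 h), rfl⟩

end Cone

end Groth.Agent.RelCone11
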