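import Groth.Agent.Lib.RelCone11.ConeImm

/-!
A quasi-coherent algebra concentrated in degree zero.
-/

universe u

open CategoryTheory CategoryTheory.Limits AlgebraicGeometry TopologicalSpace Opposite DirectSum
open scoped HomogeneousIdeal

namespace Groth.Agent.RelCone11

variable {R : Type u} [CommRing R]

/-- The pieces of the grading concentrated in degree zero. -/
def degZero (R : Type u) [CommRing R] : ℕ → AddSubgroup R
  | 0 => ⊤
  | _ + 1 => ⊥

theorem eq_zero_of_mem_degZero {n : ℕ} (hn : 0 < n) {x : R} (hx : x ∈ degZero R n) : x = 0 := by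
  obtain ⟨n, rfl⟩ := Nat.exists_eq_succ_of_ne_zero hn.ne'
  exact AddSubgroup.mem_bot.1 hx

noncomputable instance degZeroRing : GradedRing (degZero R) where
  one_mem := AddSubgroup.mem_top _
  mul_mem i j x y hx hy := by
    rcases i with _ | i
    · rcases j with _ | j
      · exact AddSubgroup.mem_top _
      · rw [AddSubgroup.mem_bot.1 hy, mul_zero]; exact zero_mem _
    · rw [AddSubgroup.mem_bot.1 hx, zero_mul]; exact zero_mem _
  decompose' a := DirectSum.of (fun i => degZero R i) 0 ⟨a, AddSubgroup.mem_top _⟩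
  left_inv a := by simp
  right_inv d := by
    induction d using DirectSum.induction_on with
    | zero => simp only [map_zero]; exact map_zero (DirectSum.of (fun i => degZero R i) 0)
    | of i x =>
      simp only [DirectSum.coeAddMonoidHom_of]
      rcases i with _ | i
      · rfl
      · obtain ⟨x, hx⟩ := x
        obtain rfl : x = 0 := AddSubgroup.mem_bot.1 hx
        refine (map_zero (DirectSum.of (fun i => degZero R i) 0)).trans ?_
        exact (map_zero (DirectSum.of (fun i => degZero R i) (i + 1))).symm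
    | add a b ha hb =>
      refine Eq.trans ?_ (congrArg₂ (· + ·) ha hb)
      simp only [map_add]
      exact map_add (DirectSum.of (fun i => degZero R i) 0) ⟨_, AddSubgroup.mem_top _⟩ ⟨_, AddSubgroup.mem_top _⟩

/-- A quasi-coherent algebra graded in degree zero. -/
noncomputable def degZeroAlg {S : Scheme.{u}} (A : RelSpec.QCAlg S) : RelProj.QCGrAlg S where
  toQCAlg := A
  deg U _ := degZero (A.presheaf.obj (op U))
  graded U _ := degZeroRing
  map_mem {U V} _ _ i {d x} hx := by
    rcases d with _ | d
    · exact AddSubgroup.mem_top _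
    · rw [AddSubgroup.mem_bot.1 hx, map_zero]; exact zero_mem _
  str_mem _ _ _ := AddSubgroup.mem_top _

variable {S : Scheme.{u}} {A : RelSpec.QCAlg S} {Sh : RelProj.QCGrAlg S} (ι : A ⟶ Sh.toQCAlg)

theorem isGradedHom_degZero
    (hι : ∀ (U : S.Opens) (hU : IsAffineOpen U) (a : A.presheaf.obj (op U)), (ι.hom.app (op U)).hom a ∈ Sh.deg U hU 0) :
    RelProj.IsGradedHom (𝒜 := degZeroAlg A) ι := by
  intro U hU d x hx
  rcases d with _ | d
  · exact hι U hU x
  · rw [AddSubgroup.mem_bot.1 hx, map_zero]; exact zero_mem _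

theorem z_not_mem {z : Sh.presheaf.obj (op ⊤)}
    (hz : RelCone.IsPolyOver (degZeroAlg A) Sh ι z) {U : S.Opens} (hU : IsAffineOpen U) (y : Proj (Sh.deg U hU)) :
    RelCone.restrictTop Sh z U ∉ y.asHomogeneousIdeal := fun hzy => by
  refine y.not_irrelevant_le (irrelevant_le (RelProj.gradedHomAt (𝒜 := degZeroAlg A) ι hz.graded U hU) (hz.deg_z U hU) (hz.bij U hU)
    (I := y.asHomogeneousIdeal.toIdeal) (fun a ha => ?_) hzy)
  have h0 : a = 0 := by
    have h1 : (((degZeroAlg A).deg U hU)₊).toIdeal ≤ ⊥ :=
      (HomogeneousIdeal.toIdeal_irrelevant_le _).2 fun n hn x hx => (Ideal.mem_bot).2 (eq_zero_of_mem_degZero hn hx)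
    exact Ideal.mem_bot.1 (h1 ha)
  rw [h0, map_zero]
  exact zero_mem _

end Groth.Agent.RelCone11
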