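import Groth.Agent.Lib.RelProj11.QMapPostComp
import Groth.Agent.Lib.RelProj11.Exists
import Groth.Agent.Lib.RelCone11.Poly
import Groth.Prelude.Def_RelSpec2

/-!
Graded morphisms and projective cones.
-/

universe u

open CategoryTheory CategoryTheory.Limits AlgebraicGeometry TopologicalSpace Opposite HomogeneousLocalization
open scoped HomogeneousIdeal

set_option backward.isDefEq.respectTransparency false

noncomputable section

namespace Groth.Agent.RelCone11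

theorem pointedProjCone_eq_domQ {S PC : Scheme.{u}} {𝒮 𝒮h : RelProj.QCGrAlg S} {ι : 𝒮.toQCAlg ⟶ 𝒮h.toQCAlg}
    {z : 𝒮h.presheaf.obj (op ⊤)} (hz : RelCone.IsPolyOver 𝒮 𝒮h ι z) (pC : PC ⟶ S)
    (chartC : ∀ (U : S.Opens) (hU : IsAffineOpen U), (((pC ⁻¹ᵁ U : PC.Opens) : Scheme.{u}) ≅ Proj (𝒮h.deg U hU))) :
    RelCone.pointedProjCone 𝒮 hz pC chartC = RelProj.domQ (RelProj.QGrHom.ofHom ι hz.graded) pC chartC := by
  refine le_antisymm (fun x hx => ?_) fun x hx => ?_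
  · obtain ⟨⟨U, hU⟩, w, hw, rfl⟩ := Opens.mem_iSup.1 hx
    refine Opens.mem_iSup.2 ⟨⟨(⟨U, hU⟩, ⟨U, hU⟩), le_refl U⟩, w, ?_, rfl⟩
    rw [RelProj11.gradedAt_ofHom]
    exact hw
  · obtain ⟨⟨U, hU, U', hU', hle, d, hd, f, hf⟩, hi⟩ := RelProj11.exists_mem_range_qC hx
    obtain ⟨w, hw, rfl⟩ := (RelProj11.mem_range_qC _).1 hi
    refine Opens.mem_iSup.2 ⟨⟨U', hU'⟩, w, ?_, rfl⟩
    have e : (RelProj.QGrHom.ofHom ι hz.graded).gradedAt U hU U' hU' hle f =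
        RelProj.gradedHomAt ι hz.graded U' hU' (𝒮.res hU hU' hle f) :=
      (ConcreteCategory.congr_hom (ι.hom.naturality (homOfLE (show U' ≤ U from hle)).op) f).symm
    have h1 : w ∈ Proj.basicOpen (𝒮h.deg U' hU')
        (RelProj.gradedHomAt ι hz.graded U' hU' (𝒮.res hU hU' hle f)) := e ▸ hw
    exact (RelCone.mem_domOpen _ w).2 ⟨_, HomogeneousIdeal.mem_irrelevant_of_mem _ hd
      ((𝒮.res hU hU' hle).map_mem hf), (ProjectiveSpectrum.mem_basicOpen _ _ _).1 h1⟩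

variable {Y Y' : Scheme.{u}} {q : Y' ⟶ Y} {𝒮 𝒮h : RelProj.QCGrAlg Y} {𝒮' 𝒮h' : RelProj.QCGrAlg Y'}
  {u : RelProj.QGrHom q 𝒮 𝒮'} {ι : 𝒮.toQCAlg ⟶ 𝒮h.toQCAlg} {z : 𝒮h.presheaf.obj (op ⊤)}
  {ι' : 𝒮'.toQCAlg ⟶ 𝒮h'.toQCAlg} {z' : 𝒮h'.presheaf.obj (op ⊤)}
  {uh : RelProj.QGrHom q 𝒮h 𝒮h'}
  (huh : ∀ U : Y.Opens, ι.hom.app (op U) ≫ uh.app U = u.app U ≫ ι'.hom.app (op (q ⁻¹ᵁ U)))
  (huhz : (uh.app ⊤).hom z = RelCone.restrictTop 𝒮h' z' (q ⁻¹ᵁ ⊤))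

theorem res_res {S : Scheme.{u}} (A : RelSpec.QCAlg S) {U V W : S.Opens} (h : V ≤ U) (h' : W ≤ V)
    (x : A.presheaf.obj (op U)) :
    (A.presheaf.map (homOfLE h').op).hom ((A.presheaf.map (homOfLE h).op).hom x) =
      (A.presheaf.map (homOfLE (h'.trans h)).op).hom x := by
  rw [← CommRingCat.comp_apply, ← Functor.map_comp]
  rfl

include huhz in
theorem app_restrictTop (U : Y.Opens) :
    (uh.app U).hom (RelCone.restrictTop 𝒮h z U) = RelCone.restrictTop 𝒮h' z' (q ⁻¹ᵁ U) := by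
  have h1 := ConcreteCategory.congr_hom (uh.naturality (le_top (a := U))) z
  refine h1.symm.trans ?_
  show (𝒮h'.presheaf.map _).hom ((uh.app ⊤).hom z) = _
  rw [huhz]
  exact res_res 𝒮h'.toQCAlg _ _ _

include huhz in
theorem appLE_restrictTop {U : Y.Opens} {U' : Y'.Opens} (hle : U' ≤ q ⁻¹ᵁ U) :
    (uh.appLE U U' hle).hom (RelCone.restrictTop 𝒮h z U) = RelCone.restrictTop 𝒮h' z' U' := by
  show (𝒮h'.presheaf.map _).hom ((uh.app U).hom (RelCone.restrictTop 𝒮h z U)) = _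
  rw [app_restrictTop huhz U]
  exact res_res 𝒮h'.toQCAlg _ _ _

variable {hz : RelCone.IsPolyOver 𝒮 𝒮h ι z} (hz' : RelCone.IsPolyOver 𝒮' 𝒮h' ι' z')

include huh in
theorem appLE_ι {U : Y.Opens} {U' : Y'.Opens} (hle : U' ≤ q ⁻¹ᵁ U) (a : 𝒮.presheaf.obj (op U)) :
    (uh.appLE U U' hle).hom ((ι.hom.app (op U)).hom a) = (ι'.hom.app (op U')).hom ((u.appLE U U' hle).hom a) := by
  show (𝒮h'.presheaf.map _).hom ((uh.app U).hom ((ι.hom.app (op U)).hom a)) = _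
  have h1 : (uh.app U).hom ((ι.hom.app (op U)).hom a) = (ι'.hom.app (op (q ⁻¹ᵁ U))).hom ((u.app U).hom a) :=
    ConcreteCategory.congr_hom (huh U) a
  rw [h1]
  exact (ConcreteCategory.congr_hom (ι'.hom.naturality (homOfLE hle).op) ((u.app U).hom a)).symm

include hz in
/-- Homomorphisms out of the polynomial algebra. -/
theorem hom_ext_poly {U : Y.Opens} (hU : IsAffineOpen U) {R : Type u} [CommRing R]
    {f g : 𝒮h.presheaf.obj (op U) →+* R}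
    (h₁ : ∀ a, f ((ι.hom.app (op U)).hom a) = g ((ι.hom.app (op U)).hom a))
    (h₂ : f (RelCone.restrictTop 𝒮h z U) = g (RelCone.restrictTop 𝒮h z U)) : f = g := by
  refine RingHom.ext fun x => ?_
  obtain ⟨P, rfl⟩ := (hz.bij U hU).2 x
  refine DFunLike.congr_fun (f := f.comp (Polynomial.eval₂RingHom _ _)) (g := g.comp (Polynomial.eval₂RingHom _ _))
    (Polynomial.ringHom_ext (fun a => ?_) ?_) P
  · simpa using h₁ a
  · simpa using h₂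

include huh huhz in
theorem evalOne_comm {U : Y.Opens} (hU : IsAffineOpen U) {U' : Y'.Opens} (hU' : IsAffineOpen U')
    (hle : U' ≤ q ⁻¹ᵁ U) :
    (hz'.evalOne U' hU').comp (uh.appLE U U' hle).hom = (u.appLE U U' hle).hom.comp (hz.evalOne U hU) := by
  refine hom_ext_poly (hz := hz) hU (fun a => ?_) ?_
  · rw [RingHom.comp_apply, RingHom.comp_apply, appLE_ι huh hle, hz'.evalOne_ι, hz.evalOne_ι]
  · rw [RingHom.comp_apply, RingHom.comp_apply, appLE_restrictTop huhz hle, hz'.evalOne_z, hz.evalOne_z, map_one]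

/-- The morphism of standard charts at the variable. -/
theorem exists_chart_map {A B : Type u} [CommRing A] [CommRing B] {𝒜 : ℕ → AddSubgroup A} [GradedRing 𝒜]
    {ℬ : ℕ → AddSubgroup B} [GradedRing ℬ] (φ : 𝒜 →+*ᵍ ℬ) {x : A} (hx : x ∈ 𝒜 1) {w : B} (hw : w ∈ ℬ 1)
    (hxw : φ x = w) {R S : Type u} [CommRing R] [CommRing S] (τ : Away 𝒜 x →+* R) (τ' : Away ℬ w →+* S)
    (f : R →+* S) (ev : A →+* R) (ev' : B →+* S)
    (hτ : ∀ n y (hy : y ∈ 𝒜 (n • 1)), τ (Away.mk 𝒜 hx n y hy) = ev y)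
    (hτ' : ∀ n y (hy : y ∈ ℬ (n • 1)), τ' (Away.mk ℬ hw n y hy) = ev' y)
    (hev : ∀ y, ev' (φ y) = f (ev y)) :
    ∃ n : Spec (CommRingCat.of S) ⟶ Spec (CommRingCat.of (Away ℬ (φ x))),
      n ≫ Proj.awayι ℬ (φ x) (φ.map_mem hx) one_pos =
          Spec.map (CommRingCat.ofHom τ') ≫ Proj.awayι ℬ w hw one_pos ∧
        n ≫ Spec.map (CommRingCat.ofHom (Away.map φ x)) =
          Spec.map (CommRingCat.ofHom f) ≫ Spec.map (CommRingCat.ofHom τ) := by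
  subst hxw
  refine ⟨Spec.map (CommRingCat.ofHom τ'), rfl, ?_⟩
  rw [← Spec.map_comp, ← Spec.map_comp, ← CommRingCat.ofHom_comp, ← CommRingCat.ofHom_comp]
  congr 2
  refine RingHom.ext fun y => ?_
  obtain ⟨n, a, ha, rfl⟩ := Away.mk_surjective 𝒜 hx y
  rw [RingHom.comp_apply, RingHom.comp_apply, Away.map_mk, hτ, hτ', hev]

variable {PC' : Scheme.{u}} {pC' : PC' ⟶ Y'}
  {chartC' : ∀ (U : Y'.Opens) (hU : IsAffineOpen U), (((pC' ⁻¹ᵁ U : PC'.Opens) : Scheme.{u}) ≅ Proj (𝒮h'.deg U hU))}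

include huhz hz in
theorem mem_domQ_of_z {U : Y.Opens} (hU : IsAffineOpen U) {U' : Y'.Opens} (hU' : IsAffineOpen U')
    (hle : U' ≤ q ⁻¹ᵁ U) (w : Proj (𝒮h'.deg U' hU'))
    (hw : RelCone.restrictTop 𝒮h' z' U' ∉ w.asHomogeneousIdeal) :
    RelProj.emb pC' chartC' U' hU' w ∈ RelProj.domQ uh pC' chartC' := by
  have h1 : RelProj.emb pC' chartC' U' hU' w ∈
      Set.range (RelProj11.qC uh pC' chartC' ⟨U, hU, U', hU', hle, 1, one_pos, _, hz.deg_z U hU⟩) := by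
    refine (RelProj11.mem_range_qC _).2 ⟨w, (ProjectiveSpectrum.mem_basicOpen _ _ _).2 ?_, rfl⟩
    show (uh.appLE U U' hle).hom (RelCone.restrictTop 𝒮h z U) ∉ w.asHomogeneousIdeal
    rw [appLE_restrictTop huhz hle]
    exact hw
  have := RelProj11.range_qC_subset _ h1
  rwa [Scheme.Opens.range_ι] at this

include hz' in
theorem mem_pointed_of_z_mem {U' : Y'.Opens} (hU' : IsAffineOpen U') (w : Proj (𝒮h'.deg U' hU'))
    (hw : RelCone.restrictTop 𝒮h' z' U' ∈ w.asHomogeneousIdeal) :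
    RelProj.emb pC' chartC' U' hU' w ∈ RelCone.pointedProjCone 𝒮' hz' pC' chartC' := by
  refine Opens.mem_iSup.2 ⟨⟨U', hU'⟩, w, ?_, rfl⟩
  rw [SetLike.mem_coe, RelCone.mem_domOpen]
  by_contra hc
  push Not at hc
  exact w.not_irrelevant_le (irrelevant_le (RelProj.gradedHomAt ι' hz'.graded U' hU') (hz'.deg_z U' hU')
    (hz'.bij U' hU') (I := w.asHomogeneousIdeal.toIdeal) hc hw)

end Groth.Agent.RelCone11

namespace Groth.Agent.RelCone11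

variable {Y Y' : Scheme.{u}} {q : Y' ⟶ Y}

/-- Two morphisms over `q` agree when they agree over affine opens. -/
theorem app_eq_of_affine {A : RelSpec.QCAlg Y} {B : RelSpec.QCAlg Y'}
    (f g : ∀ U : Y.Opens, A.presheaf.obj (op U) ⟶ B.presheaf.obj (op (q ⁻¹ᵁ U)))
    (hf : ∀ {U V : Y.Opens} (i : V ≤ U), A.presheaf.map (homOfLE i).op ≫ f V =
      f U ≫ B.presheaf.map (homOfLE (q.preimage_mono i)).op)
    (hg : ∀ {U V : Y.Opens} (i : V ≤ U), A.presheaf.map (homOfLE i).op ≫ g V =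
      g U ≫ B.presheaf.map (homOfLE (q.preimage_mono i)).op)
    (h : ∀ U : Y.Opens, IsAffineOpen U → f U = g U) (U : Y.Opens) : f U = g U := by
  ext x
  refine TopCat.Sheaf.eq_of_locally_eq' (⟨B.presheaf, B.isSheaf⟩ : TopCat.Sheaf CommRingCat.{u} Y')
    (fun W : {W : Y.Opens // IsAffineOpen W ∧ W ≤ U} => q ⁻¹ᵁ W.1) (q ⁻¹ᵁ U)
    (fun W => homOfLE (q.preimage_mono W.2.2)) (fun y hy => ?_) _ _ fun W => ?_
  · obtain ⟨W, hW, hyW, hle⟩ := exists_isAffineOpen_mem_and_subset (U := U) (x := q y) hy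
    exact Opens.mem_iSup.2 ⟨⟨W, hW, hle⟩, hyW⟩
  · show (f U ≫ B.presheaf.map (homOfLE (q.preimage_mono W.2.2)).op).hom x =
      (g U ≫ B.presheaf.map (homOfLE (q.preimage_mono W.2.2)).op).hom x
    rw [← hf W.2.2, ← hg W.2.2, h W.1 W.2.1]

variable {𝒮 𝒮h : RelProj.QCGrAlg Y} {𝒮' 𝒮h' : RelProj.QCGrAlg Y'}
  {u : RelProj.QGrHom q 𝒮 𝒮'} {ι : 𝒮.toQCAlg ⟶ 𝒮h.toQCAlg} {z : 𝒮h.presheaf.obj (op ⊤)}
  {ι' : 𝒮'.toQCAlg ⟶ 𝒮h'.toQCAlg} {z' : 𝒮h'.presheaf.obj (op ⊤)}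
  {uh : RelProj.QGrHom q 𝒮h 𝒮h'} (hz : RelCone.IsPolyOver 𝒮 𝒮h ι z)
  (huh : ∀ U : Y.Opens, ι.hom.app (op U) ≫ uh.app U = u.app U ≫ ι'.hom.app (op (q ⁻¹ᵁ U)))
  (huhz : (uh.app ⊤).hom z = RelCone.restrictTop 𝒮h' z' (q ⁻¹ᵁ ⊤))
  (θ : 𝒮h.toQCAlg ⟶ 𝒮.toQCAlg) (hθι : ι ≫ θ = 𝟙 _) (hθz : (θ.hom.app (op ⊤)).hom z = 0)
  (θ' : 𝒮h'.toQCAlg ⟶ 𝒮'.toQCAlg) (hθι' : ι' ≫ θ' = 𝟙 _) (hθz' : (θ'.hom.app (op ⊤)).hom z' = 0)

theorem retraction_ι {S : Scheme.{u}} {A B : RelSpec.QCAlg S} {ι : A ⟶ B} {θ : B ⟶ A} (h : ι ≫ θ = 𝟙 _)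
    (U : S.Opens) (a : A.presheaf.obj (op U)) : (θ.hom.app (op U)).hom ((ι.hom.app (op U)).hom a) = a :=
  ConcreteCategory.congr_hom (congr($(congr_arg RelSpec.QCAlg.Hom.hom h).app (op U))) a

theorem retraction_z {S : Scheme.{u}} {𝒜 ℬ : RelProj.QCGrAlg S} {θ : ℬ.toQCAlg ⟶ 𝒜.toQCAlg}
    {z : ℬ.presheaf.obj (op ⊤)} (h : (θ.hom.app (op ⊤)).hom z = 0) (U : S.Opens) :
    (θ.hom.app (op U)).hom (RelCone.restrictTop ℬ z U) = 0 := by
  refine (ConcreteCategory.congr_hom (θ.hom.naturality (homOfLE (le_top (a := U))).op) z).trans ?_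
  show (𝒜.presheaf.map _).hom ((θ.hom.app (op ⊤)).hom z) = 0
  rw [h, map_zero]

include hz huh huhz hθι hθz hθι' hθz' in
theorem retraction_comm (U : Y.Opens) :
    uh.app U ≫ θ'.hom.app (op (q ⁻¹ᵁ U)) = θ.hom.app (op U) ≫ u.app U := by
  refine app_eq_of_affine (q := q) (A := 𝒮h.toQCAlg) (B := 𝒮'.toQCAlg)
    (fun V => uh.app V ≫ θ'.hom.app (op (q ⁻¹ᵁ V))) (fun V => θ.hom.app (op V) ≫ u.app V)
    (fun {U V} i => ?_) (fun {U V} i => ?_) (fun V hV => CommRingCat.hom_ext ?_) U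
  · rw [← reassoc_of% uh.naturality i, Category.assoc, θ'.hom.naturality]
  · rw [reassoc_of% θ.hom.naturality (homOfLE i).op, Category.assoc, ← u.naturality i]
  · refine hom_ext_poly (hz := hz) hV (fun a => ?_) ?_
    · show (θ'.hom.app (op (q ⁻¹ᵁ V))).hom ((uh.app V).hom ((ι.hom.app (op V)).hom a)) =
        (u.app V).hom ((θ.hom.app (op V)).hom ((ι.hom.app (op V)).hom a))
      rw [retraction_ι hθι, show (uh.app V).hom ((ι.hom.app (op V)).hom a) =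
        (ι'.hom.app (op (q ⁻¹ᵁ V))).hom ((u.app V).hom a) from ConcreteCategory.congr_hom (huh V) a,
        retraction_ι hθι']
    · show (θ'.hom.app (op (q ⁻¹ᵁ V))).hom ((uh.app V).hom (RelCone.restrictTop 𝒮h z V)) =
        (u.app V).hom ((θ.hom.app (op V)).hom (RelCone.restrictTop 𝒮h z V))
      rw [retraction_z hθz, map_zero, app_restrictTop huhz V, retraction_z hθz']

end Groth.Agent.RelCone11
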