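import Groth.Agent.Lib.RelCone11.QMapCone
import Groth.Agent.Lib.RelCone11.ProjCone

/-!
The canonical retraction of the pointed projective cone.
-/

universe u

open CategoryTheory CategoryTheory.Limits AlgebraicGeometry TopologicalSpace Opposite HomogeneousLocalization
open scoped HomogeneousIdeal

set_option backward.isDefEq.respectTransparency false
set_option linter.style.haveILetI false

noncomputable section

namespace Groth.Agent.RelCone11

variable {Y PC P : Scheme.{u}} {𝒮 𝒮h : RelProj.QCGrAlg Y}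
  {ι : 𝒮.toQCAlg ⟶ 𝒮h.toQCAlg} {z : 𝒮h.presheaf.obj (op ⊤)} (hz : RelCone.IsPolyOver 𝒮 𝒮h ι z)
  (pC : PC ⟶ Y)
  (chartC : ∀ (U : Y.Opens) (hU : IsAffineOpen U), (((pC ⁻¹ᵁ U : PC.Opens) : Scheme.{u}) ≅ Proj (𝒮h.deg U hU)))
  (hPC : RelProj.IsRelProj 𝒮h pC chartC)
  (p : P ⟶ Y)
  (chart : ∀ (U : Y.Opens) (hU : IsAffineOpen U), (((p ⁻¹ᵁ U : P.Opens) : Scheme.{u}) ≅ Proj (𝒮.deg U hU)))
  (hP : RelProj.IsRelProj 𝒮 p chart)



/-- The chartwise description of the retraction. -/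
def IsRetr (r : (((RelCone.pointedProjCone 𝒮 hz pC chartC) : PC.Opens) : Scheme.{u}) ⟶ P) : Prop :=
  ∀ (U : Y.Opens) (hU : IsAffineOpen U) (d : ℕ) (hd : 0 < d) (f : 𝒮.presheaf.obj (op U)) (hf : f ∈ 𝒮.deg U hU d)
    (g : Spec (CommRingCat.of (HomogeneousLocalization.Away (𝒮h.deg U hU) ((RelProj.gradedHomAt ι hz.graded U hU) f))) ⟶
      (((RelCone.pointedProjCone 𝒮 hz pC chartC) : PC.Opens) : Scheme.{u})),
    g ≫ ((RelCone.pointedProjCone 𝒮 hz pC chartC)).ι =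
        Proj.awayι (𝒮h.deg U hU) ((RelProj.gradedHomAt ι hz.graded U hU) f) ((RelProj.gradedHomAt ι hz.graded U hU).2 hf) hd ≫
          RelProj.emb pC chartC U hU →
      g ≫ r =
        Spec.map (CommRingCat.ofHom (HomogeneousLocalization.Away.map (RelProj.gradedHomAt ι hz.graded U hU) f)) ≫
          Proj.awayι (𝒮.deg U hU) f hf hd ≫ RelProj.emb p chart U hU

theorem chart_of_eq {R S : Type u} [CommRing R] [CommRing S] {𝒜 : ℕ → AddSubgroup R} [GradedRing 𝒜]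
    {ℬ : ℕ → AddSubgroup S} [GradedRing ℬ] {G G' : 𝒜 →+*ᵍ ℬ} (e : G = G') {X Z : Scheme.{u}} (E : Proj ℬ ⟶ X)
    (F : Proj 𝒜 ⟶ Z) {W : X.Opens} (r : W.toScheme ⟶ Z) {d : ℕ} (hd : 0 < d) {f : R} (hf : f ∈ 𝒜 d) :
    (∀ g, g ≫ W.ι = Proj.awayι ℬ (G f) (G.map_mem hf) hd ≫ E →
        g ≫ r = Spec.map (CommRingCat.ofHom (Away.map G f)) ≫ Proj.awayι 𝒜 f hf hd ≫ F) ↔
      ∀ g, g ≫ W.ι = Proj.awayι ℬ (G' f) (G'.map_mem hf) hd ≫ E →
        g ≫ r = Spec.map (CommRingCat.ofHom (Away.map G' f)) ≫ Proj.awayι 𝒜 f hf hd ≫ F := by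
  subst e; exact Iff.rfl

include hz in
theorem mem_range_qC_diag {U : Y.Opens} (hU : IsAffineOpen U) {d : ℕ} (hd : 0 < d) {f : 𝒮.presheaf.obj (op U)}
    (hf : f ∈ 𝒮.deg U hU d) (y : Proj (𝒮h.deg U hU)) :
    RelProj.emb pC chartC U hU y ∈
        Set.range (RelProj11.qC (RelProj.QGrHom.ofHom ι hz.graded) pC chartC ⟨U, hU, U, hU, le_refl U, d, hd, f, hf⟩) ↔
      (RelProj.gradedHomAt ι hz.graded U hU) f ∉ y.asHomogeneousIdeal := by
  have e : (RelProj.QGrHom.ofHom ι hz.graded).gradedAt U hU U hU (le_refl U) f =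
      RelProj.gradedHomAt ι hz.graded U hU f := by
    rw [RelProj11.gradedAt_ofHom ι hz.graded U hU]
  rw [RelProj11.mem_range_qC]
  constructor
  · rintro ⟨w, hw, hwy⟩
    obtain rfl := emb_injective chartC U hU hwy
    have h1 : w ∈ Proj.basicOpen (𝒮h.deg U hU) (RelProj.gradedHomAt ι hz.graded U hU f) := e ▸ hw
    exact (ProjectiveSpectrum.mem_basicOpen _ _ _).1 h1
  · intro hy
    refine ⟨y, ?_, rfl⟩
    have h1 : y ∈ Proj.basicOpen (𝒮h.deg U hU) (RelProj.gradedHomAt ι hz.graded U hU f) :=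
      (ProjectiveSpectrum.mem_basicOpen _ _ _).2 hy
    exact e.symm ▸ h1

include hP hPC in
theorem exists_diag_of_mem {U : Y.Opens} (hU : IsAffineOpen U) (y : Proj (𝒮h.deg U hU))
    (hy : RelProj.emb pC chartC U hU y ∈ (RelCone.pointedProjCone 𝒮 hz pC chartC)) :
    ∃ (d : ℕ) (_ : 0 < d) (f : 𝒮.presheaf.obj (op U)) (_ : f ∈ 𝒮.deg U hU d),
      (RelProj.gradedHomAt ι hz.graded U hU) f ∉ y.asHomogeneousIdeal := by
  rw [pointedProjCone_eq_domQ hz] at hy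
  obtain ⟨d, hd, f, hf, h⟩ := RelProj11.exists_mem_chart (u := RelProj.QGrHom.ofHom ι hz.graded) hP hPC hU hU (le_refl U) hy (emb_mem chartC U hU y)
  exact ⟨d, hd, f, hf, (mem_range_qC_diag hz pC chartC hU hd hf y).1 h⟩

include hz in
theorem coneChart_basic {U : Y.Opens} (hU : IsAffineOpen U) {n : ℕ} (hn : 0 < n) {a : 𝒮.presheaf.obj (op U)}
    (ha : a ∈ 𝒮.deg U hU n) (q : Spec (𝒮.presheaf.obj (op U))) :
    RelProj.gradedHomAt ι hz.graded U hU a ∈ (coneChart hz U hU q).asHomogeneousIdeal ↔ a ∈ q.asIdeal := by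
  let η := RelProj.gradedHomAt ι hz.graded U hU
  rw [← not_iff_not]
  show coneChart hz U hU q ∈ Proj.basicOpen (𝒮h.deg U hU) (η a) ↔ _
  rw [← Scheme.Hom.mem_preimage, coneChart, Scheme.Hom.comp_preimage]
  erw [Proj.awayι_preimage_basicOpen (𝒜 := 𝒮h.deg U hU) (hz.deg_z U hU) one_pos (η.map_mem ha) hn]
  show hz.awayZToBase U hU _ ∉ q.asIdeal ↔ _
  rw [Away.isLocalizationElem, awayZToBase_mk, pow_one]
  exact not_congr (by erw [hz.evalOne_ι])

include hz in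
theorem mem_PPC_of_not_mem {U : Y.Opens} (hU : IsAffineOpen U) {d : ℕ} (hd : 0 < d) {f : 𝒮.presheaf.obj (op U)}
    (hf : f ∈ 𝒮.deg U hU d) {y : Proj (𝒮h.deg U hU)}
    (hy : RelProj.gradedHomAt ι hz.graded U hU f ∉ y.asHomogeneousIdeal) :
    RelProj.emb pC chartC U hU y ∈ (RelCone.pointedProjCone 𝒮 hz pC chartC) :=
  Opens.mem_iSup.2 ⟨⟨U, hU⟩, y, (RelCone.mem_domOpen _ y).2 ⟨f, HomogeneousIdeal.mem_irrelevant_of_mem _ hd hf, hy⟩, rfl⟩

include hP hPC in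
theorem coneImm_preimage {i : 𝒮.toQCAlg.spec ⟶ PC} (hi : RelCone.IsConeImm 𝒮 hz pC chartC i) :
    i ⁻¹ᵁ (RelCone.pointedProjCone 𝒮 hz pC chartC) = RelCone.pointedCone 𝒮 := by
  ext c
  obtain ⟨U, hU, hcU, -⟩ := exists_isAffineOpen_mem_and_subset (U := (⊤ : Y.Opens)) (x := 𝒮.toQCAlg.π c) trivial
  obtain ⟨q, rfl⟩ := mem_range_ι 𝒮.toQCAlg hU c hcU
  have e : i (𝒮.toQCAlg.ι U hU q) = RelProj.emb pC chartC U hU (coneChart hz U hU q) := by
    rw [← Scheme.Hom.comp_apply, ι_coneImm hz hi U hU, Scheme.Hom.comp_apply]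
  rw [SetLike.mem_coe, SetLike.mem_coe, Scheme.Hom.mem_preimage, e, mem_pointedCone_iff 𝒮 hU, mem_vertexCompl]
  constructor
  · intro h hle
    obtain ⟨d, hd, f, hf, hy⟩ := exists_diag_of_mem hz pC chartC hPC p chart hP hU _ h
    exact hy ((coneChart_basic hz hU hd hf q).2 (hle (HomogeneousIdeal.mem_irrelevant_of_mem _ hd hf)))
  · intro h
    rw [HomogeneousIdeal.toIdeal_irrelevant_le] at h
    push Not at h
    obtain ⟨d, hd, hnot⟩ := h
    obtain ⟨f, hf, hfq⟩ := Set.not_subset.1 hnot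
    exact mem_PPC_of_not_mem hz pC chartC hU hd hf fun hc => hfq ((coneChart_basic hz hU hd hf q).1 hc)

/-- The diagonal charts. -/
structure DIdx where
  U : Y.Opens
  hU : IsAffineOpen U
  d : ℕ
  hd : 0 < d
  f : 𝒮.presheaf.obj (op U)
  hf : f ∈ 𝒮.deg U hU d

/-- A diagonal chart as a chart. -/
def DIdx.toQ (k : DIdx (𝒮 := 𝒮)) : RelProj11.QIdx (g := 𝟙 Y) (𝒮 := 𝒮) :=
  ⟨k.U, k.hU, k.U, k.hU, le_refl k.U, k.d, k.hd, k.f, k.hf⟩

variable {r : (((RelCone.pointedProjCone 𝒮 hz pC chartC) : PC.Opens) : Scheme.{u}) ⟶ P} (hr : IsRetr hz pC chartC p chart r)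

include hr in
theorem retr_diag (k : DIdx (𝒮 := 𝒮)) (hsub : Set.range (RelProj11.qC (RelProj.QGrHom.ofHom ι hz.graded) pC chartC k.toQ) ⊆ Set.range ((RelCone.pointedProjCone 𝒮 hz pC chartC)).ι) :
    IsOpenImmersion.lift ((RelCone.pointedProjCone 𝒮 hz pC chartC)).ι (RelProj11.qC (RelProj.QGrHom.ofHom ι hz.graded) pC chartC k.toQ) hsub ≫ r = RelProj11.qM (RelProj.QGrHom.ofHom ι hz.graded) p chart k.toQ :=
  (chart_of_eq (RelProj11.gradedAt_ofHom ι hz.graded k.U k.hU (le_refl k.U)) (RelProj.emb pC chartC k.U k.hU)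
    (RelProj.emb p chart k.U k.hU) r k.hd k.hf).2 (hr k.U k.hU k.d k.hd k.f k.hf)
    (IsOpenImmersion.lift ((RelCone.pointedProjCone 𝒮 hz pC chartC)).ι (RelProj11.qC (RelProj.QGrHom.ofHom ι hz.graded) pC chartC k.toQ) hsub) (IsOpenImmersion.lift_fac _ _ _)

include hz in
theorem range_diag_subset (k : DIdx (𝒮 := 𝒮)) :
    Set.range (RelProj11.qC (RelProj.QGrHom.ofHom ι hz.graded) pC chartC k.toQ) ⊆ Set.range ((RelCone.pointedProjCone 𝒮 hz pC chartC)).ι := by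
  rw [pointedProjCone_eq_domQ hz]
  exact RelProj11.range_qC_subset _

include hP hPC in
theorem exists_diag_cover (x : PC) (hx : x ∈ (RelCone.pointedProjCone 𝒮 hz pC chartC)) :
    ∃ k : DIdx (𝒮 := 𝒮), x ∈ Set.range (RelProj11.qC (RelProj.QGrHom.ofHom ι hz.graded) pC chartC k.toQ) := by
  obtain ⟨U, hU, y, rfl⟩ := exists_emb chartC x
  obtain ⟨d, hd, f, hf, hy⟩ := exists_diag_of_mem hz pC chartC hPC p chart hP hU y hx
  exact ⟨⟨U, hU, d, hd, f, hf⟩, (mem_range_qC_diag hz pC chartC hU hd hf y).2 hy⟩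

theorem exists_qMapOn_transport {W : PC.Opens} (e : W = RelProj.domQ (RelProj.QGrHom.ofHom ι hz.graded) pC chartC)
    (hP : RelProj.IsRelProj 𝒮 p chart) (hPC : RelProj.IsRelProj 𝒮h pC chartC) :
    ∃ r : W.toScheme ⟶ P, RelProj.IsProjQMapOn (RelProj.QGrHom.ofHom ι hz.graded) p chart pC chartC W r := by
  subst e
  exact (RelProj11.existsUnique_qMapOn (RelProj.QGrHom.ofHom ι hz.graded) hP hPC).exists

include hP hPC in
theorem existsUnique_retr : ∃! r : (((RelCone.pointedProjCone 𝒮 hz pC chartC) : PC.Opens) : Scheme.{u}) ⟶ P, IsRetr hz pC chartC p chart r := by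
  obtain ⟨r, hr⟩ := exists_qMapOn_transport hz pC chartC p chart (pointedProjCone_eq_domQ hz pC chartC) hP hPC
  have hr' : IsRetr hz pC chartC p chart r := fun U hU d hd f hf =>
    (chart_of_eq (RelProj11.gradedAt_ofHom ι hz.graded U hU (le_refl U)) (RelProj.emb pC chartC U hU)
      (RelProj.emb p chart U hU) r hd hf).1 fun g hg => by
        have hsub := range_diag_subset hz pC chartC ⟨U, hU, d, hd, f, hf⟩
        have hgl : g = IsOpenImmersion.lift ((RelCone.pointedProjCone 𝒮 hz pC chartC)).ι (RelProj11.qC (RelProj.QGrHom.ofHom ι hz.graded) pC chartC (DIdx.toQ ⟨U, hU, d, hd, f, hf⟩)) hsub := by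
          rw [← cancel_mono ((RelCone.pointedProjCone 𝒮 hz pC chartC)).ι, IsOpenImmersion.lift_fac]
          exact hg
        rw [hgl]
        exact hr U hU U hU (le_refl U) d hd f hf hsub
  refine ⟨r, hr', fun r₂ hr₂ => ?_⟩
  refine RelProj11.hom_ext_refine (c := fun k : DIdx (𝒮 := 𝒮) => RelProj11.qC (RelProj.QGrHom.ofHom ι hz.graded) pC chartC k.toQ) _
    (range_diag_subset hz pC chartC) (exists_diag_cover hz pC chartC hPC p chart hP) _ _ fun k => ?_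
  exact (retr_diag hz pC chartC p chart hr₂ k _).trans (retr_diag hz pC chartC p chart hr' k _).symm

include hP hPC hr in
theorem exists_transport : ∃ r' : (RelProj.domQ (RelProj.QGrHom.ofHom ι hz.graded) pC chartC).toScheme ⟶ P,
    RelProj.IsProjQMapOn (RelProj.QGrHom.ofHom ι hz.graded) p chart pC chartC (RelProj.domQ (RelProj.QGrHom.ofHom ι hz.graded) pC chartC) r' ∧
      r = PC.homOfLE (pointedProjCone_eq_domQ hz pC chartC).le ≫ r' := by
  obtain ⟨r', hr', -⟩ := RelProj11.existsUnique_qMapOn (RelProj.QGrHom.ofHom ι hz.graded) hP hPC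
  refine ⟨r', hr', RelProj11.hom_ext_refine (c := fun k : DIdx (𝒮 := 𝒮) => RelProj11.qC (RelProj.QGrHom.ofHom ι hz.graded) pC chartC k.toQ) _
    (range_diag_subset hz pC chartC) (exists_diag_cover hz pC chartC hPC p chart hP) _ _ fun k => ?_⟩
  have e : IsOpenImmersion.lift ((RelCone.pointedProjCone 𝒮 hz pC chartC)).ι (RelProj11.qC (RelProj.QGrHom.ofHom ι hz.graded) pC chartC k.toQ) (range_diag_subset hz pC chartC k) ≫
      PC.homOfLE (pointedProjCone_eq_domQ hz pC chartC).le =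
      IsOpenImmersion.lift (RelProj.domQ (RelProj.QGrHom.ofHom ι hz.graded) pC chartC).ι (RelProj11.qC (RelProj.QGrHom.ofHom ι hz.graded) pC chartC k.toQ)
        (RelProj11.range_qC_subset _) := by
    rw [← cancel_mono (RelProj.domQ (RelProj.QGrHom.ofHom ι hz.graded) pC chartC).ι, Category.assoc, Scheme.homOfLE_ι, IsOpenImmersion.lift_fac,
      IsOpenImmersion.lift_fac]
  rw [retr_diag hz pC chartC p chart hr k, reassoc_of% e, RelProj11.lift_qC_comp hr']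

include hP hPC hr in
theorem retr_comp : r ≫ p = ((RelCone.pointedProjCone 𝒮 hz pC chartC)).ι ≫ pC := by
  obtain ⟨r', hr', rfl⟩ := exists_transport hz pC chartC hPC p chart hP hr
  rw [Category.assoc, RelProj11.qMapOn_comp hP hPC hr', Category.comp_id, Scheme.homOfLE_ι_assoc]

include hP hPC hr in
theorem retr_mem_iff {U : Y.Opens} (hU : IsAffineOpen U) {d : ℕ} (hd : 0 < d) {f : 𝒮.presheaf.obj (op U)}
    (hf : f ∈ 𝒮.deg U hU d) (c : (((RelCone.pointedProjCone 𝒮 hz pC chartC) : PC.Opens) : Scheme.{u})) :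
    r c ∈ RelProj.emb p chart U hU ''ᵁ Proj.basicOpen (𝒮.deg U hU) f ↔
      c.1 ∈ Set.range (RelProj11.qC (RelProj.QGrHom.ofHom ι hz.graded) pC chartC ⟨U, hU, U, hU, le_refl U, d, hd, f, hf⟩) := by
  constructor
  · intro h
    have hcU : pC c.1 ∈ U := by
      obtain ⟨w, -, hw⟩ := h
      have h1 : p (r c) = pC c.1 := congr($(retr_comp hz pC chartC hPC p chart hP hr) c)
      rw [← h1, ← hw]
      exact emb_mem chart U hU w
    obtain ⟨r', hr', rfl⟩ := exists_transport hz pC chartC hPC p chart hP hr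
    have h2 := RelProj11.mem_preimage_emb_basicOpen_iff hP hPC hr' ⟨U, hU, U, hU, le_refl U, d, hd, f, hf⟩
      (PC.homOfLE (pointedProjCone_eq_domQ hz pC chartC).le c)
    have e : (PC.homOfLE (pointedProjCone_eq_domQ hz pC chartC).le c).1 = c.1 :=
      congr($(Scheme.homOfLE_ι PC (pointedProjCone_eq_domQ hz pC chartC).le) c)
    rw [e] at h2
    exact (h2 hcU).1 h
  · rintro ⟨y, hy⟩
    let k : DIdx (𝒮 := 𝒮) := ⟨U, hU, d, hd, f, hf⟩
    have hc : IsOpenImmersion.lift ((RelCone.pointedProjCone 𝒮 hz pC chartC)).ι (RelProj11.qC (RelProj.QGrHom.ofHom ι hz.graded) pC chartC k.toQ) (range_diag_subset hz pC chartC k) y = c :=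
      (RelCone.pointedProjCone 𝒮 hz pC chartC).ι.isOpenEmbedding.injective (by
        rw [← Scheme.Hom.comp_apply, IsOpenImmersion.lift_fac]; exact hy)
    rw [← hc, ← Scheme.Hom.comp_apply, retr_diag hz pC chartC p chart hr k]
    refine ⟨_, (Proj.opensRange_awayι (𝒮.deg U hU) f hf hd).le ⟨_, rfl⟩, rfl⟩

include hP hPC hr in
theorem isAffineHom_retr : IsAffineHom r := by
  refine isAffineHom_of_forall_exists_isAffineOpen r fun x => ?_
  obtain ⟨U, hU, w, rfl⟩ := exists_emb chart x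
  have hw : ¬ (𝒮.deg U hU)₊.toIdeal ≤ w.asHomogeneousIdeal.toIdeal := w.not_irrelevant_le
  rw [HomogeneousIdeal.toIdeal_irrelevant_le] at hw
  push Not at hw
  obtain ⟨d, hd, hnot⟩ := hw
  obtain ⟨f, hf, hfw⟩ := Set.not_subset.1 hnot
  refine ⟨RelProj.emb p chart U hU ''ᵁ Proj.basicOpen (𝒮.deg U hU) f,
    ⟨w, (ProjectiveSpectrum.mem_basicOpen _ _ _).2 hfw, rfl⟩,
    (Proj.isAffineOpen_basicOpen _ f hf hd).image_of_isOpenImmersion _, ?_⟩
  let k : DIdx (𝒮 := 𝒮) := ⟨U, hU, d, hd, f, hf⟩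
  let l := IsOpenImmersion.lift ((RelCone.pointedProjCone 𝒮 hz pC chartC)).ι (RelProj11.qC (RelProj.QGrHom.ofHom ι hz.graded) pC chartC k.toQ) (range_diag_subset hz pC chartC k)
  haveI : IsOpenImmersion l := by
    haveI : IsOpenImmersion (l ≫ ((RelCone.pointedProjCone 𝒮 hz pC chartC)).ι) := by rw [IsOpenImmersion.lift_fac]; infer_instance
    exact IsOpenImmersion.of_comp l ((RelCone.pointedProjCone 𝒮 hz pC chartC)).ι
  haveI : IsAffine (RelProj11.qDom (u := RelProj.QGrHom.ofHom ι hz.graded) k.toQ) := by unfold RelProj11.qDom; infer_instance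
  have : r ⁻¹ᵁ (RelProj.emb p chart U hU ''ᵁ Proj.basicOpen (𝒮.deg U hU) f) = l.opensRange := by
    ext c
    rw [SetLike.mem_coe, Scheme.Hom.mem_preimage, retr_mem_iff hz pC chartC hPC p chart hP hr hU hd hf c]
    constructor
    · rintro ⟨y, hy⟩
      exact ⟨y, (RelCone.pointedProjCone 𝒮 hz pC chartC).ι.isOpenEmbedding.injective (by
        rw [← Scheme.Hom.comp_apply, IsOpenImmersion.lift_fac]; exact hy)⟩
    · rintro ⟨y, rfl⟩
      exact ⟨y, (congr($(IsOpenImmersion.lift_fac ((RelCone.pointedProjCone 𝒮 hz pC chartC)).ι (RelProj11.qC (RelProj.QGrHom.ofHom ι hz.graded) pC chartC k.toQ) (range_diag_subset hz pC chartC k)) y)).symm⟩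
  rw [this]
  exact isAffineOpen_opensRange l

include hP hPC hr in
theorem exists_cone_point_retr (x : P) :
    ∃ (U : Y.Opens) (hU : IsAffineOpen U) (q : Spec (𝒮.presheaf.obj (op U))) (c : (((RelCone.pointedProjCone 𝒮 hz pC chartC) : PC.Opens) : Scheme.{u})),
      c.1 = RelProj.emb pC chartC U hU (coneChart hz U hU q) ∧ r c = x := by
  obtain ⟨U, hU, w, rfl⟩ := exists_emb chart x
  let q : Spec (𝒮.presheaf.obj (op U)) := ⟨w.asHomogeneousIdeal.toIdeal, w.isPrime⟩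
  let y : Proj (𝒮h.deg U hU) := coneChart hz U hU q
  have key : ∀ (d : ℕ) (_ : 0 < d) (f : 𝒮.presheaf.obj (op U)) (_ : f ∈ 𝒮.deg U hU d),
      RelProj.gradedHomAt ι hz.graded U hU f ∈ y.asHomogeneousIdeal ↔ f ∈ w.asHomogeneousIdeal := fun d hd f hf =>
    coneChart_basic hz hU hd hf q
  have hw : ¬ (𝒮.deg U hU)₊.toIdeal ≤ w.asHomogeneousIdeal.toIdeal := w.not_irrelevant_le
  rw [HomogeneousIdeal.toIdeal_irrelevant_le] at hw
  push Not at hw
  obtain ⟨d, hd, hnot⟩ := hw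
  obtain ⟨f, hf, hfw⟩ := Set.not_subset.1 hnot
  have hy : RelProj.emb pC chartC U hU y ∈ (RelCone.pointedProjCone 𝒮 hz pC chartC) :=
    mem_PPC_of_not_mem hz pC chartC hU hd hf fun h => hfw ((key d hd f hf).1 h)
  refine ⟨U, hU, q, ⟨_, hy⟩, rfl, ?_⟩
  have hpos : ∀ (n : ℕ) (hn : 0 < n) (a : 𝒮.presheaf.obj (op U)) (_ : a ∈ 𝒮.deg U hU n),
      r ⟨RelProj.emb pC chartC U hU y, hy⟩ ∈ RelProj.emb p chart U hU ''ᵁ Proj.basicOpen (𝒮.deg U hU) a ↔
        a ∉ w.asHomogeneousIdeal := fun n hn a ha => by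
    rw [retr_mem_iff hz pC chartC hPC p chart hP hr hU hn ha]
    exact (mem_range_qC_diag hz pC chartC hU hn ha y).trans (not_congr (key n hn a ha))
  obtain ⟨v, -, hv⟩ := (hpos d hd f hf).2 hfw
  rw [← hv]
  congr 1
  refine ProjectiveSpectrum.ext (HomogeneousIdeal.ext ?_)
  have hiff : ∀ (n : ℕ) (a : 𝒮.presheaf.obj (op U)), a ∈ 𝒮.deg U hU n → 0 < n →
      (a ∈ v.asHomogeneousIdeal.toIdeal ↔ a ∈ w.asHomogeneousIdeal.toIdeal) := fun n a ha hn => by
    have h1 := hpos n hn a ha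
    rw [← hv] at h1
    rw [← not_iff_not]
    refine Iff.trans ?_ h1
    refine Iff.trans (ProjectiveSpectrum.mem_basicOpen _ _ _).symm ?_
    exact ((RelProj.emb p chart U hU).isOpenEmbedding.injective.mem_set_image).symm
  have hhom : ∀ (n : ℕ) (a : 𝒮.presheaf.obj (op U)), a ∈ 𝒮.deg U hU n →
      (a ∈ v.asHomogeneousIdeal.toIdeal ↔ a ∈ w.asHomogeneousIdeal.toIdeal) := fun n a ha => by
    have hfv : f ∉ v.asHomogeneousIdeal.toIdeal := fun h => hfw ((hiff d f hf hd).1 h)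
    have h1 := hiff (n + d) (a * f) (SetLike.mul_mem_graded ha hf) (by omega)
    exact ⟨fun h => (w.isPrime.mem_or_mem (h1.1 (Ideal.mul_mem_right _ _ h))).resolve_right hfw,
      fun h => (v.isPrime.mem_or_mem (h1.2 (Ideal.mul_mem_right _ _ h))).resolve_right hfv⟩
  classical
  ext a
  refine ⟨fun h => ?_, fun h => ?_⟩ <;> rw [← DirectSum.sum_support_decompose (𝒮.deg U hU) a] <;>
    refine sum_mem fun n _ => ?_
  · exact (hhom n _ (SetLike.coe_mem _)).1 (v.asHomogeneousIdeal.isHomogeneous n h)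
  · exact (hhom n _ (SetLike.coe_mem _)).2 (w.asHomogeneousIdeal.isHomogeneous n h)

theorem exists_lift_map {R S : Type u} [CommRing R] [CommRing S] {𝒜 : ℕ → AddSubgroup R} [GradedRing 𝒜]
    {ℬ : ℕ → AddSubgroup S} [GradedRing ℬ] (η : 𝒜 →+*ᵍ ℬ) (ψ : ℬ →+*ᵍ 𝒜) (h : ∀ a, ψ (η a) = a)
    (hψ : 𝒜₊ ≤ (ℬ₊).map ψ) {d : ℕ} (hd : 0 < d) {f : R} (hf : f ∈ 𝒜 d) :
    ∃ a : Spec (.of (Away 𝒜 f)) ⟶ Spec (.of (Away ℬ (η f))),
      a ≫ Proj.awayι ℬ (η f) (η.map_mem hf) hd = Proj.awayι 𝒜 f hf hd ≫ Proj.map ψ hψ ∧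
        a ≫ Spec.map (CommRingCat.ofHom (Away.map η f)) = 𝟙 _ := by
  have aux : ∀ (f' : R) (e : ψ (η f) = f') (hf' : f' ∈ 𝒜 d),
      ∃ (τ : Away ℬ (η f) →+* Away 𝒜 f'), (Spec.map (CommRingCat.ofHom τ) ≫ Proj.awayι ℬ (η f) (η.map_mem hf) hd =
        Proj.awayι 𝒜 f' hf' hd ≫ Proj.map ψ hψ) ∧
        ∀ n y (hy : y ∈ ℬ (n • d)), τ (Away.mk ℬ (η.map_mem hf) n y hy) = Away.mk 𝒜 hf' n (ψ y) (ψ.map_mem hy) := by
    rintro _ rfl hf'
    exact ⟨Away.map ψ (η f), (Proj.awayι_comp_map ψ hψ hd (η f) (η.map_mem hf)).symm,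
      fun n y hy => Away.map_mk _ _ _ _ _ _⟩
  obtain ⟨τ, hτ, hτ'⟩ := aux f (h f) hf
  refine ⟨Spec.map (CommRingCat.ofHom τ), hτ, ?_⟩
  rw [← Spec.map_comp, ← CommRingCat.ofHom_comp, ← Spec.map_id]
  congr 1
  refine CommRingCat.hom_ext (RingHom.ext fun x => ?_)
  obtain ⟨n, a, ha, rfl⟩ := Away.mk_surjective 𝒜 hf x
  show τ (Away.map η f (Away.mk 𝒜 hf n a ha)) = Away.mk 𝒜 hf n a ha
  rw [Away.map_mk, hτ']
  apply HomogeneousLocalization.val_injective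
  simp only [Away.val_mk, h]

include hP hPC hr in
theorem retr_section {θ : 𝒮h.toQCAlg ⟶ 𝒮.toQCAlg} {hθ : RelProj.IsGradedHom θ} (hιθ : ι ≫ θ = 𝟙 _)
    {hirr : ∀ (U : Y.Opens) (hU : IsAffineOpen U),
      (𝒮.deg U hU)₊ ≤ ((𝒮h.deg U hU)₊).map (RelProj.gradedHomAt θ hθ U hU)}
    {j : P ⟶ PC} (hj : RelProj.IsRelProjMap θ hθ hirr chartC chart j)
    {j' : P ⟶ (((RelCone.pointedProjCone 𝒮 hz pC chartC) : PC.Opens) : Scheme.{u})} (hj' : j' ≫ ((RelCone.pointedProjCone 𝒮 hz pC chartC)).ι = j) : j' ≫ r = 𝟙 P := by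
  have cov : ∀ x : P, ∃ k : DIdx (𝒮 := 𝒮), x ∈ Set.range (Proj.awayι (𝒮.deg k.U k.hU) k.f k.hf k.hd ≫ RelProj.emb p chart k.U k.hU) := by
    intro x
    obtain ⟨U, hU, w, rfl⟩ := exists_emb chart x
    have hw : ¬ (𝒮.deg U hU)₊.toIdeal ≤ w.asHomogeneousIdeal.toIdeal := w.not_irrelevant_le
    rw [HomogeneousIdeal.toIdeal_irrelevant_le] at hw
    push Not at hw
    obtain ⟨d, hd, hnot⟩ := hw
    obtain ⟨f, hf, hfw⟩ := Set.not_subset.1 hnot
    obtain ⟨v, hv⟩ := (Proj.opensRange_awayι (𝒮.deg U hU) f hf hd).ge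
      (show w ∈ Proj.basicOpen (𝒮.deg U hU) f from (ProjectiveSpectrum.mem_basicOpen _ _ _).2 hfw)
    exact ⟨⟨U, hU, d, hd, f, hf⟩, v, congrArg (RelProj.emb p chart U hU) hv⟩
  choose k v hk using cov
  let C : P.OpenCover := Scheme.Cover.mkOfCovers (P : Type u) (fun x => Spec (.of (Away (𝒮.deg (k x).U (k x).hU) (k x).f)))
    (fun x => Proj.awayι (𝒮.deg (k x).U (k x).hU) (k x).f (k x).hf (k x).hd ≫ RelProj.emb p chart (k x).U (k x).hU)
    (fun x => ⟨x, v x, hk x⟩) (fun x => inferInstance)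
  refine Scheme.Cover.hom_ext C _ _ fun x => ?_
  show (Proj.awayι _ _ _ _ ≫ RelProj.emb p chart (k x).U (k x).hU) ≫ j' ≫ r = (Proj.awayι _ _ _ _ ≫ _) ≫ 𝟙 P
  generalize k x = k
  obtain ⟨U, hU, d, hd, f, hf⟩ := k
  obtain ⟨a, ha, ha'⟩ := exists_lift_map (RelProj.gradedHomAt ι hz.graded U hU) (RelProj.gradedHomAt θ hθ U hU)
    (fun a => retraction_ι hιθ U a) (hirr U hU) hd hf
  have hsub : Set.range (Proj.awayι (𝒮h.deg U hU) ((RelProj.gradedHomAt ι hz.graded U hU) f)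
      ((RelProj.gradedHomAt ι hz.graded U hU).2 hf) hd ≫ RelProj.emb pC chartC U hU) ⊆ Set.range ((RelCone.pointedProjCone 𝒮 hz pC chartC)).ι := by
    rintro _ ⟨y, rfl⟩
    rw [Scheme.Opens.range_ι]
    exact mem_PPC_of_not_mem hz pC chartC hU hd hf ((ProjectiveSpectrum.mem_basicOpen _ _ _).1
      ((Proj.opensRange_awayι (𝒮h.deg U hU) _ _ hd).le ⟨y, rfl⟩))
  have hg := IsOpenImmersion.lift_fac ((RelCone.pointedProjCone 𝒮 hz pC chartC)).ι _ hsub
  have e : (Proj.awayι (𝒮.deg U hU) f hf hd ≫ RelProj.emb p chart U hU) ≫ j' =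
      a ≫ IsOpenImmersion.lift ((RelCone.pointedProjCone 𝒮 hz pC chartC)).ι _ hsub := by
    rw [← cancel_mono ((RelCone.pointedProjCone 𝒮 hz pC chartC)).ι, Category.assoc, hj', Category.assoc, Category.assoc, hg, reassoc_of% ha]
    congr 1
    rw [RelProj.emb, Category.assoc, hj U hU, Iso.inv_hom_id_assoc]
    rfl
  show (Proj.awayι (𝒮.deg U hU) f hf hd ≫ RelProj.emb p chart U hU) ≫ j' ≫ r =
    (Proj.awayι (𝒮.deg U hU) f hf hd ≫ RelProj.emb p chart U hU) ≫ 𝟙 P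
  rw [← Category.assoc, e, Category.assoc, hr U hU d hd f hf _ hg, reassoc_of% ha', Category.comp_id]

end Groth.Agent.RelCone11
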