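import Groth.Agent.Lib.RelCone11.Pointed

/-!
Morphisms of relative spectra over a morphism of bases.
-/

universe u

open CategoryTheory CategoryTheory.Limits AlgebraicGeometry TopologicalSpace Opposite

namespace Groth.Agent.RelCone11

theorem ι_res_general {S : Scheme.{u}} (A : RelSpec.QCAlg S) {U V : S.Opens} (hU : IsAffineOpen U)
    (hV : IsAffineOpen V) (h : V ≤ U) :
    Spec.map (A.presheaf.map (homOfLE h).op) ≫ A.ι U hU = A.ι V hV := by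
  let I := {D : S.Opens // ∃ (_ : IsAffineOpen D) (r : Γ(S, U)) (t : Γ(S, V)), D = S.basicOpen r ∧ D = S.basicOpen t}
  let O : I → (Spec (A.presheaf.obj (op V))).Opens := fun D => A.ι V hV ⁻¹ᵁ (A.π ⁻¹ᵁ D.1)
  have hO : iSup O = ⊤ := top_le_iff.1 fun x _ => by
    have hx := π_ι_mem A hV x
    obtain ⟨r, t, e, hxr⟩ := exists_basicOpen_le_affine_inter hU hV _ ⟨h hx, hx⟩
    exact Opens.mem_iSup.2 ⟨⟨S.basicOpen r, hU.basicOpen r, r, t, rfl, e⟩, hxr⟩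
  refine Scheme.Cover.hom_ext ((Spec (A.presheaf.obj (op V))).openCoverOfIsOpenCover O hO) _ _ fun D => ?_
  obtain ⟨D, hD, r, t, er, et⟩ := D
  show (O ⟨D, hD, r, t, er, et⟩).ι ≫ _ = (O ⟨D, hD, r, t, er, et⟩).ι ≫ _
  have hDV : D ≤ V := et ▸ S.basicOpen_le t
  have eV := ι_res_eq A hV hD t et hDV
  have eU := ι_res_eq A hU hD r er (hDV.trans h)
  have hr : Set.range ((O ⟨D, hD, r, t, er, et⟩).ι ≫ A.ι V hV) ⊆ Set.range (A.ι D hD) := by
    rintro _ ⟨w, rfl⟩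
    obtain ⟨q, hq⟩ := mem_range_ι A hD (((O ⟨D, hD, r, t, er, et⟩).ι ≫ A.ι V hV) w) w.2
    exact ⟨q, hq⟩
  let l := IsOpenImmersion.lift (A.ι D hD) _ hr
  have hl : (O ⟨D, hD, r, t, er, et⟩).ι = l ≫ Spec.map (A.presheaf.map (homOfLE hDV).op) := by
    rw [← cancel_mono (A.ι V hV), Category.assoc, eV, IsOpenImmersion.lift_fac]
  rw [hl, Category.assoc, Category.assoc, eV, ← Spec.map_comp_assoc, ← Functor.map_comp]
  exact congrArg (l ≫ ·) eU

/-- The preimage of an affine open in the relative spectrum. -/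
noncomputable def specPreimage {S : Scheme.{u}} (A : RelSpec.QCAlg S) (U : S.Opens) (hU : IsAffineOpen U) :
    (A.π ⁻¹ᵁ U).toScheme ≅ Spec (A.presheaf.obj (op U)) :=
  IsOpenImmersion.isoOfRangeEq (A.π ⁻¹ᵁ U).ι (A.ι U hU) (by rw [Scheme.Opens.range_ι, A.π_preimage U hU]; rfl)

theorem specPreimage_ι {S : Scheme.{u}} (A : RelSpec.QCAlg S) (U : S.Opens) (hU : IsAffineOpen U) :
    (specPreimage A U hU).hom ≫ A.ι U hU = (A.π ⁻¹ᵁ U).ι :=
  IsOpenImmersion.lift_fac _ _ _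

variable {S S' : Scheme.{u}} (q : S' ⟶ S) (B : RelSpec.QCAlg S)
  (B' : RelSpec.QCAlg S') (v : B.presheaf ⟶ q.base _* B'.presheaf)

/-- The component `B(U) ⟶ B'(U')` of a `q`-morphism. -/
def qComp (U : S.Opens) (U' : S'.Opens) (hle : U' ≤ q ⁻¹ᵁ U) : B.presheaf.obj (op U) ⟶ B'.presheaf.obj (op U') :=
  (v.app (op U) : B.presheaf.obj (op U) ⟶ B'.presheaf.obj (op (q ⁻¹ᵁ U))) ≫ B'.presheaf.map (homOfLE hle).op

theorem qComp_res {U W : S.Opens} {U' W' : S'.Opens} (hle : U' ≤ q ⁻¹ᵁ U) (hle' : W' ≤ q ⁻¹ᵁ W) (h : W ≤ U)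
    (h' : W' ≤ U') :
    qComp q B B' v U U' hle ≫ B'.presheaf.map (homOfLE h').op =
      B.presheaf.map (homOfLE h).op ≫ qComp q B B' v W W' hle' := by
  have hn : B.presheaf.map (homOfLE h).op ≫ (v.app (op W) : B.presheaf.obj (op W) ⟶ B'.presheaf.obj (op (q ⁻¹ᵁ W))) =
      (v.app (op U) : B.presheaf.obj (op U) ⟶ B'.presheaf.obj (op (q ⁻¹ᵁ U))) ≫
        B'.presheaf.map (homOfLE (q.preimage_mono h)).op := v.naturality (homOfLE h).op
  simp only [qComp, Category.assoc]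
  rw [reassoc_of% hn]
  simp only [← Functor.map_comp]
  rfl

theorem existsUnique_qSpecMap :
    ∃! w : B'.spec ⟶ B.spec,
      ∀ (U : S.Opens) (hU : IsAffineOpen U) (U' : S'.Opens) (hU' : IsAffineOpen U') (hle : U' ≤ q ⁻¹ᵁ U),
        B'.ι U' hU' ≫ w = Spec.map (qComp q B B' v U U' hle) ≫ B.ι U hU := by
  let I := {P : S.Opens × S'.Opens // IsAffineOpen P.1 ∧ IsAffineOpen P.2 ∧ P.2 ≤ q ⁻¹ᵁ P.1}
  let O : I → B'.spec.Opens := fun a => B'.π ⁻¹ᵁ a.1.2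
  let g : ∀ a : I, (O a).toScheme ⟶ B.spec := fun a =>
    (specPreimage B' a.1.2 a.2.2.1).hom ≫ Spec.map (qComp q B B' v a.1.1 a.1.2 a.2.2.2) ≫ B.ι a.1.1 a.2.1
  have hO : iSup O = ⊤ := top_le_iff.1 fun c _ => by
    obtain ⟨U, hU, hy, -⟩ := exists_isAffineOpen_mem_and_subset (U := (⊤ : S.Opens)) (x := q (B'.π c)) trivial
    obtain ⟨U', hU', hy', hle⟩ := exists_isAffineOpen_mem_and_subset (U := q ⁻¹ᵁ U) (x := B'.π c) hy
    exact Opens.mem_iSup.2 ⟨⟨(U, U'), hU, hU', hle⟩, hy'⟩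
  have gres : ∀ (a c : I) (_ : c.1.1 ≤ a.1.1) (h2 : c.1.2 ≤ a.1.2),
      B'.spec.homOfLE (B'.π.preimage_mono h2) ≫ g a = g c := by
    intro a c h1 h2
    have e1 : (specPreimage B' c.1.2 c.2.2.1).hom ≫ Spec.map (B'.presheaf.map (homOfLE h2).op) =
        B'.spec.homOfLE (B'.π.preimage_mono h2) ≫ (specPreimage B' a.1.2 a.2.2.1).hom := by
      rw [← cancel_mono (B'.ι a.1.2 a.2.2.1), Category.assoc, Category.assoc, specPreimage_ι,
        ι_res_general B' a.2.2.1 c.2.2.1 h2, specPreimage_ι, Scheme.homOfLE_ι]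
    simp only [g]
    rw [← Category.assoc, ← e1, Category.assoc, ← Spec.map_comp_assoc, qComp_res q B B' v _ c.2.2.2 h1 h2,
      Spec.map_comp, Category.assoc, ι_res_general B a.2.1 c.2.1 h1]
  let C := B'.spec.openCoverOfIsOpenCover O hO
  have key : ∀ a b : I, B'.spec.homOfLE (inf_le_left : O a ⊓ O b ≤ O a) ≫ g a =
      B'.spec.homOfLE (inf_le_right : O a ⊓ O b ≤ O b) ≫ g b := by
    intro a b
    let K := {c : I // c.1.1 ≤ a.1.1 ⊓ b.1.1 ∧ c.1.2 ≤ a.1.2 ⊓ b.1.2}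
    let W : K → (O a ⊓ O b).toScheme.Opens := fun c => (O a ⊓ O b).ι ⁻¹ᵁ O c.1
    have hW : iSup W = ⊤ := top_le_iff.1 fun z _ => by
      obtain ⟨z, hz⟩ := z
      obtain ⟨U, hU, hy, hUle⟩ := exists_isAffineOpen_mem_and_subset (U := a.1.1 ⊓ b.1.1) (x := q (B'.π z))
        ⟨a.2.2.2 hz.1, b.2.2.2 hz.2⟩
      obtain ⟨U', hU', hy', hle⟩ := exists_isAffineOpen_mem_and_subset (U := (q ⁻¹ᵁ U) ⊓ (a.1.2 ⊓ b.1.2)) (x := B'.π z)
        ⟨hy, hz⟩
      exact Opens.mem_iSup.2 ⟨⟨⟨(U, U'), hU, hU', fun w hw => (hle hw).1⟩, hUle, fun w hw => (hle hw).2⟩, hy'⟩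
    refine Scheme.Cover.hom_ext ((O a ⊓ O b).toScheme.openCoverOfIsOpenCover W hW) _ _ fun (c : K) => ?_
    show (W c).ι ≫ _ = (W c).ι ≫ _
    have hr : Set.range ((W c).ι ≫ (O a ⊓ O b).ι) ⊆ Set.range (O c.1).ι := by
      rw [Scheme.Opens.range_ι]
      rintro _ ⟨z, rfl⟩
      exact z.2
    let l := IsOpenImmersion.lift (O c.1).ι _ hr
    have ea : (W c).ι ≫ B'.spec.homOfLE (inf_le_left : O a ⊓ O b ≤ O a) =
        l ≫ B'.spec.homOfLE (B'.π.preimage_mono (c.2.2.trans inf_le_left)) := by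
      rw [← cancel_mono (O a).ι]
      simp only [Category.assoc, Scheme.homOfLE_ι, O, l, IsOpenImmersion.lift_fac]
    have eb : (W c).ι ≫ B'.spec.homOfLE (inf_le_right : O a ⊓ O b ≤ O b) =
        l ≫ B'.spec.homOfLE (B'.π.preimage_mono (c.2.2.trans inf_le_right)) := by
      rw [← cancel_mono (O b).ι]
      simp only [Category.assoc, Scheme.homOfLE_ι, O, l, IsOpenImmersion.lift_fac]
    rw [reassoc_of% ea, reassoc_of% eb,
      gres a c.1 (c.2.1.trans inf_le_left) (c.2.2.trans inf_le_left),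
      gres b c.1 (c.2.1.trans inf_le_right) (c.2.2.trans inf_le_right)]
  refine ⟨C.glueMorphisms g fun a b => ?_, fun U hU U' hU' hle => ?_, fun w hw => ?_⟩
  · refine (cancel_epi (isPullback_opens_inf (O a) (O b)).isoPullback.hom).mp ?_
    change _ ≫ pullback.fst (O a).ι (O b).ι ≫ _ = _ ≫ pullback.snd (O a).ι (O b).ι ≫ _
    rw [IsPullback.isoPullback_hom_fst_assoc, IsPullback.isoPullback_hom_snd_assoc]
    exact key a b
  · rw [← cancel_epi (specPreimage B' U' hU').hom, reassoc_of% specPreimage_ι]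
    exact Scheme.Cover.ι_glueMorphisms C g _ ⟨(U, U'), hU, hU', hle⟩
  · refine Scheme.Cover.hom_ext C _ _ fun a => ?_
    refine Eq.trans ?_ (Scheme.Cover.ι_glueMorphisms C g _ a).symm
    show (O a).ι ≫ w = g a
    rw [← specPreimage_ι B' a.1.2 a.2.2.1, Category.assoc, hw a.1.1 a.2.1 a.1.2 a.2.2.1 a.2.2.2]

theorem qSpecMap_π (hv : B.str ≫ v = q.c ≫ (TopCat.Presheaf.pushforward CommRingCat.{u} q.base).map B'.str)
    (w : B'.spec ⟶ B.spec)
    (hw : ∀ (U : S.Opens) (hU : IsAffineOpen U) (U' : S'.Opens) (hU' : IsAffineOpen U') (hle : U' ≤ q ⁻¹ᵁ U),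
      B'.ι U' hU' ≫ w = Spec.map (qComp q B B' v U U' hle) ≫ B.ι U hU) :
    w ≫ B.π = B'.π ≫ q := by
  let I := {P : S.Opens × S'.Opens // IsAffineOpen P.1 ∧ IsAffineOpen P.2 ∧ P.2 ≤ q ⁻¹ᵁ P.1}
  let O : I → B'.spec.Opens := fun a => B'.π ⁻¹ᵁ a.1.2
  have hO : iSup O = ⊤ := top_le_iff.1 fun c _ => by
    obtain ⟨U, hU, hy, -⟩ := exists_isAffineOpen_mem_and_subset (U := (⊤ : S.Opens)) (x := q (B'.π c)) trivial
    obtain ⟨U', hU', hy', hle⟩ := exists_isAffineOpen_mem_and_subset (U := q ⁻¹ᵁ U) (x := B'.π c) hy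
    exact Opens.mem_iSup.2 ⟨⟨(U, U'), hU, hU', hle⟩, hy'⟩
  refine Scheme.Cover.hom_ext (B'.spec.openCoverOfIsOpenCover O hO) _ _ fun a => ?_
  obtain ⟨⟨U, U'⟩, hU, hU', hle⟩ := a
  show (B'.π ⁻¹ᵁ U').ι ≫ _ = (B'.π ⁻¹ᵁ U').ι ≫ _
  have key : B'.ι U' hU' ≫ w ≫ B.π = B'.ι U' hU' ≫ B'.π ≫ q := by
    rw [reassoc_of% hw U hU U' hU' hle, RelSpec.QCAlg.ι_π, reassoc_of% B'.ι_π, ← Spec.map_comp_assoc]
    have e : B.str.app (op U) ≫ qComp q B B' v U U' hle = q.appLE U U' hle ≫ B'.str.app (op U') := by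
      rw [qComp, Scheme.Hom.appLE, Category.assoc]
      erw [B'.str.naturality]
      exact congrArg (· ≫ B'.presheaf.map (homOfLE hle).op) (NatTrans.congr_app hv (op U)) |>.trans (Category.assoc _ _ _)
    rw [e, Spec.map_comp, Category.assoc]
    exact congrArg (Spec.map (B'.str.app (op U')) ≫ ·) (IsAffineOpen.SpecMap_appLE_fromSpec q hU hU' hle)
  rw [← specPreimage_ι B' U' hU', Category.assoc, Category.assoc, key]

end Groth.Agent.RelCone11
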